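import Cfsg.Agent.ThModel83.Model
import Cfsg.Agent.ThH99.Bound

/-!
The bound for the order of the group presented by the first three groups of relators.
-/

set_option autoImplicit false
set_option maxRecDepth 100000

namespace CfsgLib.ThCent69

open Cfsg.Spor

/-- seven elements and 1 as values of the eight generators -/
def v8 {X : Type} [Group X] (v : Fin 7 → X) : Th.Gen → X
  | .a => v 0
  | .b => v 1
  | .c => v 2
  | .d => v 3
  | .e => v 4
  | .s => v 5
  | .t => v 6
  | .u => 1

theorem v8_rel {X : Type} [Group X] {v : Fin 7 → X} (h : ThModel83.Rel7 v) :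
    ThH99.Rel123 (v8 v) := by
  refine ThH99.holds_of_lift le_rfl fun n hn hlt => h _ ?_
  have e := ThModel83.rel7_map (FreeGroup.lift (v8 v)) Th.a Th.b Th.c Th.d Th.e Th.s Th.t
  simp only [Th.a, Th.b, Th.c, Th.d, Th.e, Th.s, Th.t, FreeGroup.lift_apply_of, v8] at e
  rw [← e, show ThModel83.rel7 (FreeGroup.of Th.Gen.a) (FreeGroup.of Th.Gen.b)
      (FreeGroup.of Th.Gen.c) (FreeGroup.of Th.Gen.d) (FreeGroup.of Th.Gen.e)
      (FreeGroup.of Th.Gen.s) (FreeGroup.of Th.Gen.t) = Th.extra.take 27 from rfl]
  refine List.mem_map_of_mem ?_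
  exact List.mem_take_iff_getElem.2 ⟨n, by omega, rfl⟩

/-- The presented group has order at most 634023936. -/
theorem boundHyp : ThModel83.BoundHyp := by
  refine ThModel83.boundHyp_of fun X _ v hv => ?_
  have h := ThH99.card_H_le (v8_rel hv)
  have hs : ThH99.sub (v8 v) ThH99.kH = Subgroup.closure (Set.range v) := by
    apply le_antisymm
    · refine ThH99.sub_le fun x hx => ?_
      have hlt : x < 14 := by
        revert x; decide
      have hmem : ∀ i, v i ∈ Subgroup.closure (Set.range v) := fun i =>
        Subgroup.subset_closure ⟨i, rfl⟩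
      interval_cases x
      all_goals first
        | exact hmem _
        | exact inv_mem (hmem _)
    · rw [Subgroup.closure_le]
      rintro _ ⟨i, rfl⟩
      fin_cases i
      · exact ThH99.lv_mem_sub _ (x := 0) (by decide)
      · exact ThH99.lv_mem_sub _ (x := 2) (by decide)
      · exact ThH99.lv_mem_sub _ (x := 4) (by decide)
      · exact ThH99.lv_mem_sub _ (x := 6) (by decide)
      · exact ThH99.lv_mem_sub _ (x := 8) (by decide)
      · exact ThH99.lv_mem_sub _ (x := 10) (by decide)
      · exact ThH99.lv_mem_sub _ (x := 12) (by decide)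
  rw [← hs]
  exact ⟨Nat.finite_of_card_ne_zero h.2, h.1⟩

end CfsgLib.ThCent69
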