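import Cfsg.Agent.ThCent69.Psi
import Cfsg.Agent.ThCent69.Bound
import Cfsg.Agent.Th34.Cyclic
import Cfsg.Agent.ThModel83.Inj
import Cfsg.Agent.ThIndex62.Main

/-!
`|K| = 2^15·3^4·5·7` divides the order of the presented Thompson group.
-/

set_option autoImplicit false
set_option maxRecDepth 100000

namespace CfsgLib.ThCent69

/-- The presented group is finite. -/
theorem finite_Th : Finite Cfsg.Spor.Th := by
  have hH : Nat.card Th34.H ≠ 0 := (ThH99.card_Th_H_le).2
  have hI : Th34.H.index ≠ 0 := ThIndex62.index_H_le.1.index_ne_zero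
  refine Nat.finite_of_card_ne_zero ?_
  rw [← Th34.H.card_mul_index]
  exact Nat.mul_ne_zero hH hI

theorem card_H_eq : Nat.card Th34.H = 634023936 := ThH99.card_H ThModel83.L_ne_bot

theorem u_not_mem_H : Th34.g .u ∉ Th34.H := by
  intro hu
  have hTop : Th34.H = ⊤ := by
    rw [eq_top_iff, ← Th34.closure_gens, Subgroup.closure_le]
    rintro _ ⟨x, rfl⟩
    by_cases hx : x = .u
    · exact hx ▸ hu
    · exact Th34.g_mem_H hx
  have h := card_H_eq
  rw [hTop, Subgroup.card_top] at h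
  have h19 := Th34.Cyclic.dvd_nineteen
  rw [h] at h19
  omega

/-- `K = ⟨a, c, d, e, s, t, u⟩` has order 92897280 and `Qn` is extraspecial of order 512. -/
theorem card_K : Nat.card K = 92897280 ∧ Nat.card Qn = 512 ∧ Cfsg.IsExtraspecial 2 Qn := by
  haveI := finite_Th
  obtain ⟨ψ, hψ⟩ := exists_psi boundHyp card_H_eq
  exact kfacts_card card_H_eq u_not_mem_H ψ hψ

theorem dvd_card_K : 92897280 ∣ Nat.card Cfsg.Spor.Th :=
  card_K.1 ▸ Subgroup.card_subgroup_dvd_card K

theorem dvd_two : 2 ^ 15 ∣ Nat.card Cfsg.Spor.Th := (show 2 ^ 15 ∣ 92897280 by norm_num).trans dvd_card_K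

theorem dvd_five_once : 5 ∣ Nat.card Cfsg.Spor.Th := (show 5 ∣ 92897280 by norm_num).trans dvd_card_K

theorem dvd_seven_once : 7 ∣ Nat.card Cfsg.Spor.Th := (show 7 ∣ 92897280 by norm_num).trans dvd_card_K

theorem dvd_three_four : 3 ^ 4 ∣ Nat.card Cfsg.Spor.Th := (show 3 ^ 4 ∣ 92897280 by norm_num).trans dvd_card_K

end CfsgLib.ThCent69
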