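import Mathlib

/-!
Bounds for centralisers from fixed cosets and from orbit stabilisers.
-/

set_option autoImplicit false

namespace CfsgLib.ThCent69

open Subgroup

variable {G : Type*} [Group G]

/-- If `g⁻¹ a g = a'` lies in `H`, the centraliser of `a` moves the fixed coset `g H` among
the cosets fixed by `a`, with stabiliser a conjugate of the centraliser of `a'` in `H`. -/
theorem card_centralizer_le_fixed [Finite G] (H : Subgroup G) {a a' g : G}
    (hg : g⁻¹ * a * g = a') (ha' : a' ∈ H) :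
    Nat.card ↥(centralizer ({a} : Set G)) ≤
      Nat.card {x : G ⧸ H // a • x = x} * Nat.card ↥(H ⊓ centralizer ({a'} : Set G)) := by
  classical
  have hfix : a • ((g : G) : G ⧸ H) = (g : G ⧸ H) := by
    rw [MulAction.Quotient.smul_coe, QuotientGroup.eq, smul_eq_mul]
    have : (a * g)⁻¹ * g = a'⁻¹ := by rw [← hg]; group
    rw [this]
    exact inv_mem ha'
  let C := centralizer ({a} : Set G)
  have hmov : ∀ c : C, a • ((c : G) • ((g : G) : G ⧸ H)) = (c : G) • ((g : G) : G ⧸ H) := by
    intro c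
    have hc : (c : G) * a = a * (c : G) := mem_centralizer_singleton_iff.1 c.2
    rw [← mul_smul, ← hc, mul_smul, hfix]
  let f : C → {x : G ⧸ H // a • x = x} := fun c => ⟨(c : G) • ((g : G) : G ⧸ H), hmov c⟩
  have hfib : ∀ x, Nat.card {c : C // f c = x} ≤ Nat.card ↥(H ⊓ centralizer ({a'} : Set G)) := by
    intro x
    rcases isEmpty_or_nonempty {c : C // f c = x} with h | ⟨⟨c₀, hc₀⟩⟩
    · simp
    refine Nat.card_le_card_of_injective
      (fun c => (⟨g⁻¹ * ((c₀ : G)⁻¹ * (c.1 : G)) * g, ?_⟩ : ↥(H ⊓ centralizer ({a'} : Set G))))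
      ?_
    · have h1 : (c₀ : G) • ((g : G) : G ⧸ H) = (c.1 : G) • ((g : G) : G ⧸ H) :=
        (congrArg Subtype.val hc₀).trans (congrArg Subtype.val c.2).symm
      rw [MulAction.Quotient.smul_coe, MulAction.Quotient.smul_coe, QuotientGroup.eq, smul_eq_mul,
        smul_eq_mul] at h1
      refine mem_inf.2 ⟨?_, mem_centralizer_singleton_iff.2 ?_⟩
      · have : g⁻¹ * ((c₀ : G)⁻¹ * (c.1 : G)) * g = ((c₀ : G) * g)⁻¹ * ((c.1 : G) * g) := by group
        rw [this]; exact h1
      · have hd : ((c₀ : G)⁻¹ * (c.1 : G)) * a = a * ((c₀ : G)⁻¹ * (c.1 : G)) :=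
          mem_centralizer_singleton_iff.1 (mul_mem (inv_mem c₀.2) c.1.2)
        rw [← hg]
        calc g⁻¹ * ((c₀ : G)⁻¹ * (c.1 : G)) * g * (g⁻¹ * a * g)
            = g⁻¹ * (((c₀ : G)⁻¹ * (c.1 : G)) * a) * g := by group
          _ = g⁻¹ * (a * ((c₀ : G)⁻¹ * (c.1 : G))) * g := by rw [hd]
          _ = g⁻¹ * a * g * (g⁻¹ * ((c₀ : G)⁻¹ * (c.1 : G)) * g) := by group
    · intro c d hcd
      have h := congrArg Subtype.val hcd
      have : (c.1 : G) = (d.1 : G) := by simpa using h
      exact Subtype.ext (Subtype.ext this)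
  have := Fintype.ofFinite {x : G ⧸ H // a • x = x}
  calc Nat.card C = Nat.card ((x : {x : G ⧸ H // a • x = x}) × {c : C // f c = x}) :=
        (Nat.card_congr (Equiv.sigmaFiberEquiv f)).symm
    _ = ∑ x, Nat.card {c : C // f c = x} := Nat.card_sigma
    _ ≤ ∑ _x : {x : G ⧸ H // a • x = x}, Nat.card ↥(H ⊓ centralizer ({a'} : Set G)) :=
        Finset.sum_le_sum fun x _ => hfib x
    _ = _ := by simp [Nat.card_eq_fintype_card]

/-- An element `x` fixing a point `p` has centraliser at most `f` times the centraliser in the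
stabiliser of `p`, `f` its number of fixed points; the latter is at most the order of the
stabiliser divided by any number `m` of distinct conjugates of `x` by elements fixing `p`. -/
theorem card_centralizer_mul_le {α : Type*} [MulAction G α] [Finite G] [Finite α] (p : α) (x : G)
    (hx : x • p = p) {m : ℕ} (y : Fin m → G) (hy : ∀ i, y i • p = p)
    (hinj : Function.Injective fun i => y i * x * (y i)⁻¹) :
    Nat.card ↥(centralizer ({x} : Set G)) * m ≤
      Nat.card {q : α // x • q = q} * Nat.card ↥(MulAction.stabilizer G p) := by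
  classical
  let C := centralizer ({x} : Set G)
  let S := MulAction.stabilizer G p
  have hmov : ∀ c : C, x • ((c : G) • p) = (c : G) • p := by
    intro c
    have hc : (c : G) * x = x * (c : G) := mem_centralizer_singleton_iff.1 c.2
    rw [← mul_smul, ← hc, mul_smul, hx]
  have hsel : ∀ q : {q : α // x • q = q}, ∃ c₀ : C, (∃ c : C, (c : G) • p = q) → (c₀ : G) • p = q := by
    intro q
    by_cases h : ∃ c : C, (c : G) • p = q
    · exact ⟨h.choose, fun _ => h.choose_spec⟩
    · exact ⟨1, fun h' => absurd h' h⟩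
  choose r hr using hsel
  let e : C → {q : α // x • q = q} := fun c => ⟨(c : G) • p, hmov c⟩
  have hre : ∀ c : C, (((r (e c)) : G)⁻¹ * (c : G)) • p = p := fun c => by
    have h2 : ((r (e c)) : G) • p = (c : G) • p := hr (e c) ⟨c, rfl⟩
    rw [mul_smul, ← h2, inv_smul_smul]
  have hmem : ∀ (c : C) (i : Fin m), y i * (((r (e c)) : G)⁻¹ * (c : G)) ∈ S := fun c i => by
    rw [MulAction.mem_stabilizer_iff, mul_smul, hre, hy]
  let F : C × Fin m → {q : α // x • q = q} × S := fun z => (e z.1, ⟨_, hmem z.1 z.2⟩)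
  have hF : Function.Injective F := by
    rintro ⟨c, i⟩ ⟨d, j⟩ h
    obtain ⟨h1, h2⟩ := Prod.ext_iff.1 h
    have h1 : e c = e d := h1
    have h2 : y i * (((r (e c)) : G)⁻¹ * (c : G)) = y j * (((r (e d)) : G)⁻¹ * (d : G)) :=
      congrArg Subtype.val h2
    have key : ∀ (k : C), ((k : G)) * x * (k : G)⁻¹ = x := fun k => by
      rw [mem_centralizer_singleton_iff.1 k.2, mul_inv_cancel_right]
    have kc := key ((r (e c))⁻¹ * c)
    have kd := key ((r (e d))⁻¹ * d)
    simp only [Subgroup.coe_mul, Subgroup.coe_inv] at kc kd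
    have hij : i = j := hinj <| by
      show y i * x * (y i)⁻¹ = y j * x * (y j)⁻¹
      calc y i * x * (y i)⁻¹
          = y i * ((((r (e c)) : G)⁻¹ * (c : G)) * x * (((r (e c)) : G)⁻¹ * (c : G))⁻¹) * (y i)⁻¹ := by
            rw [kc]
        _ = (y i * (((r (e c)) : G)⁻¹ * (c : G))) * x * (y i * (((r (e c)) : G)⁻¹ * (c : G)))⁻¹ := by
            group
        _ = (y j * (((r (e d)) : G)⁻¹ * (d : G))) * x * (y j * (((r (e d)) : G)⁻¹ * (d : G)))⁻¹ := by
            rw [h2]
        _ = y j * ((((r (e d)) : G)⁻¹ * (d : G)) * x * (((r (e d)) : G)⁻¹ * (d : G))⁻¹) * (y j)⁻¹ := by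
            group
        _ = y j * x * (y j)⁻¹ := by rw [kd]
    subst hij
    rw [show r (e c) = r (e d) from congrArg r h1] at h2
    have : (c : G) = (d : G) := mul_left_cancel (mul_left_cancel h2)
    exact Prod.ext (Subtype.ext this) rfl
  have h := Nat.card_le_card_of_injective F hF
  rw [Nat.card_prod, Nat.card_prod, Nat.card_fin] at h
  exact h

end CfsgLib.ThCent69
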