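import Mathlib
import Cfsg.Agent.CosetEnum.Upper

/-! Generated: the images in the alternating group of degree 9 of d, e, s, t, u. -/

set_option autoImplicit false
set_option maxRecDepth 100000

namespace CfsgLib.ThCent69.Alt

/-- image of d -/
def dP : Equiv.Perm (Fin 9) :=
  ⟨![0, 6, 5, 4, 3, 2, 1, 8, 7], ![0, 6, 5, 4, 3, 2, 1, 8, 7], by decide, by decide⟩

/-- image of e -/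
def eP : Equiv.Perm (Fin 9) :=
  ⟨![7, 3, 6, 1, 5, 4, 2, 0, 8], ![7, 3, 6, 1, 5, 4, 2, 0, 8], by decide, by decide⟩

/-- image of s -/
def sP : Equiv.Perm (Fin 9) :=
  ⟨![6, 0, 1, 2, 3, 4, 5, 7, 8], ![1, 2, 3, 4, 5, 6, 0, 7, 8], by decide, by decide⟩

/-- image of t -/
def tP : Equiv.Perm (Fin 9) :=
  ⟨![0, 4, 1, 5, 2, 6, 3, 7, 8], ![0, 2, 4, 6, 1, 3, 5, 7, 8], by decide, by decide⟩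

/-- image of u -/
def uP : Equiv.Perm (Fin 9) :=
  ⟨![0, 2, 1, 6, 4, 5, 3, 7, 8], ![0, 2, 1, 6, 4, 5, 3, 7, 8], by decide, by decide⟩

/-- the letters -/
def val : ℕ → Equiv.Perm (Fin 9)
  | 0 => dP
  | 1 => dP⁻¹
  | 2 => eP
  | 3 => eP⁻¹
  | 4 => sP
  | 5 => sP⁻¹
  | 6 => tP
  | 7 => tP⁻¹
  | 8 => uP
  | 9 => uP⁻¹
  | _ => 1

/-- `(swap 0 1) * swap x y` as words, listed as (x, y, word) -/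
def swapWords : List (Fin 9 × Fin 9 × List ℕ) := [(0, 1, []), (0, 2, [8, 0, 4, 4, 8, 0, 4, 4]), (0, 3, [4, 0, 8, 0, 6, 4, 8, 4, 8]), (0, 4, [0, 4, 8, 0, 6, 4, 8, 6]), (0, 5, [0, 4, 4, 8, 0, 8, 4, 6]), (0, 6, [4, 8, 0, 4, 4, 8, 0, 4]), (0, 7, [2, 4, 8, 0, 8, 4, 0, 2, 8, 4]), (0, 8, [2, 8, 4, 0, 2, 8, 0, 4, 2, 8, 4]), (1, 2, [0, 4, 4, 8, 0, 4, 4, 8]), (1, 3, [4, 6, 8, 0, 8, 4, 0]), (1, 4, [8, 0, 6, 4, 8, 0, 6, 4]), (1, 5, [4, 6, 4, 8, 0, 8, 0, 4, 6]), (1, 6, [0, 4, 8, 0, 4, 4, 4, 8, 4, 8]), (1, 7, [0, 8, 4, 8, 0, 8, 4, 4, 2, 8, 4]), (1, 8, [0, 2, 6, 4, 8, 0, 4, 8, 4, 6]), (2, 3, [0, 4, 8, 4, 4, 0, 8, 4, 4]), (2, 4, [4, 0, 6, 8, 4, 0]), (2, 5, [4, 4, 8, 4, 8]), (2, 6, [4, 8, 0, 8, 0, 4, 6, 8, 4, 8, 6]), (2, 7, [2, 0, 4, 8, 4, 0, 6, 8, 4,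 2, 4]), (2, 8, [8, 0, 4, 2, 4, 4, 8, 0, 8, 4, 6, 6]), (3, 4, [4, 4, 8, 0, 4, 8, 0, 4, 6, 8]), (3, 5, [4, 6, 8, 0, 4, 8, 0, 8, 4]), (3, 6, [0, 4, 4, 8, 0, 4, 4]), (3, 7, [6, 4, 2, 6, 4, 8, 4]), (3, 8, [6, 4, 0, 2, 6, 8, 4, 0, 8]), (4, 5, [4, 0, 2, 0, 8, 0, 2, 6, 4, 0]), (4, 6, [4, 6, 4, 8, 4, 4]), (4, 7, [0, 2, 8, 0, 2, 4, 4, 4, 8, 0, 2, 4]), (4, 8, [0, 6, 4, 2, 4, 4, 8, 0, 8, 4, 8]), (5, 6, [4, 0, 8, 4, 4, 0, 8]), (5, 7, [0, 4, 8, 0, 2, 8, 4, 2, 8, 6]), (5, 8, [0, 2, 8, 6, 4, 2, 0, 4]), (6, 7, [2, 0, 4, 4, 8, 0, 2, 8, 4, 4, 8]), (6, 8, [8, 6, 4, 0, 2, 4, 8, 0, 6, 8]), (7, 8, [4, 4, 8, 0, 6, 8, 0, 4, 8, 0])]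

end CfsgLib.ThCent69.Alt
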