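import Cfsg.Agent.ThCent69.Fix62

/-!
The involution centraliser of the presented Thompson group, from its order and the index of `H`.
-/

set_option autoImplicit false

namespace CfsgLib.ThCent69

/-- The centraliser of `a` is `2^{1+8}.A₉`. -/
theorem centralizer_of_isTh (hTh : Cfsg.IsTh Cfsg.Spor.Th) (hidx : Th34.H.index = 143127000) :
    ∃ (G : Type) (_ : Group G) (_ : Finite G), Cfsg.IsTh G ∧ ∃ z : G, orderOf z = 2 ∧
      ∃ (Q : Subgroup (Subgroup.centralizer ({z} : Set G))) (_ : Q.Normal), Nat.card Q = 2 ^ 9 ∧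
        Cfsg.IsExtraspecial 2 Q ∧
        Nonempty ((Subgroup.centralizer ({z} : Set G)) ⧸ Q ≃* alternatingGroup (Fin 9)) :=
  centralizer_structure' hTh hidx boundHyp ((fixed_a_le hidx).trans (by norm_num))

/-- The facts on the centraliser of `a`. -/
theorem kfacts_of_isTh (hTh : Cfsg.IsTh Cfsg.Spor.Th) (hidx : Th34.H.index = 143127000) :
    Subgroup.centralizer ({gl 0} : Set Cfsg.Spor.Th) = K ∧ Nat.card K = 92897280 ∧
      Nat.card Qn = 512 ∧ Cfsg.IsExtraspecial 2 Qn :=
  kfacts' hTh hidx boundHyp ((fixed_a_le hidx).trans (by norm_num))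

end CfsgLib.ThCent69
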