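import Cfsg.Agent.ThCent69.KSide
import Cfsg.Agent.LargeExtraspecial.Simple
import Cfsg.Prelude.Def_Sporadic

/-!
The involution centraliser of the presented Thompson group, from its order, the index of
`H = ⟨a, b, c, d, e, s, t⟩`, the action of `H` on 819 points and a bound for the number of
fixed cosets of `a`.
-/

set_option autoImplicit false
set_option maxRecDepth 100000

namespace CfsgLib.ThCent69

open CfsgLib.CosetEnum Cfsg.Spor Subgroup

theorem gl_mem_H {x : ℕ} (hx : x < 14) : gl x ∈ Th34.H := by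
  interval_cases x
  all_goals first
    | exact Th34.g_mem_H (by decide)
    | exact inv_mem (Th34.g_mem_H (by decide))

/-- values of the letters of `H` as elements of `H` -/
noncomputable def hs (x : ℕ) : Th34.H := if h : x < 14 then ⟨gl x, gl_mem_H h⟩ else 1

theorem coe_gword_hs {w : List ℕ} (hw : ∀ x ∈ w, x < 14) :
    ((gword hs w : Th34.H) : Th) = gword gl w := by
  rw [show ((gword hs w : Th34.H) : Th) = Th34.H.subtype (gword hs w) from rfl, gword_map]
  exact gword_congr _ _ fun x hx => by simp [hs, hw x hx]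

/-- the letters of `HK` among those of `H` -/
def toH (x : ℕ) : ℕ := if x < 2 then x else x + 2

theorem gk_eq_gl {x : ℕ} (hx : x < 14) : gk x = gl (toH x) := by
  rw [gk, letterVal, if_pos hx, toH]
  split_ifs <;> rfl

theorem qWords_shape : Model.qWords.all (fun q =>
    (q == q.take (q.length / 2) ++ [4] ++ Model.winv (q.take (q.length / 2))) &&
      (q.take (q.length / 2)).all (fun x => x.blt 14 && !(x == 2) && !(x == 3))) = true := by
  decide +kernel

theorem gword_gl_winv (w : List ℕ) : gword gl (Model.winv w) = (gword gl w)⁻¹ :=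
  gword_inverse gl (fun x => x ^^^ 1) gl_inv w

theorem qWord_mem_Qn (i : ℕ) (hi : i < 8) : gword gl (Model.qWords.getD i []) ∈ Qn := by
  have hlen : Model.qWords.length = 8 := by decide +kernel
  have hmem : Model.qWords.getD i [] ∈ Model.qWords := by
    rw [List.getD_eq_getElem _ _ (hlen ▸ hi)]; exact List.getElem_mem _
  have h := qWords_shape
  simp only [List.all_eq_true, Bool.and_eq_true, beq_iff_eq, Nat.blt, Nat.ble_eq,
    Bool.not_eq_true', beq_eq_false_iff_ne] at h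
  obtain ⟨he, hl⟩ := h _ hmem
  set v := (Model.qWords.getD i []).take ((Model.qWords.getD i []).length / 2)
  have hv : gword gl v ∈ K := by
    refine gword_mem K gl fun x hx => ?_
    obtain ⟨⟨hx14, hx2⟩, hx3⟩ := hl x hx
    have h' : gl x = gk (toK x) := by
      rw [gk]; exact (gl_toK hx2 hx3).symm
    rw [h']
    exact gk_mem_K (by rw [toK]; split_ifs <;> omega)
  rw [he, Model.gword_append, Model.gword_append, gword_gl_winv]
  refine subset_closure ⟨(gword gl v)⁻¹, inv_mem hv, ?_⟩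
  rw [inv_inv, gk_eq_gl (by decide), show toH 2 = 4 from rfl]
  simp [gword]

/-! ### conjugating `a` to `a c e` -/

theorem rel_aux : gl 15 * gl 3 * gl 5 * gl 1 * gl 2 * gl 14 * gl 3 * gl 0 * gl 4 * gl 2 * gl 9 = 1 ∧
    (gl 0 * gl 8) * (gl 0 * gl 8) = 1 ∧ (gl 2 * gl 8) * (gl 2 * gl 8) = 1 ∧
    (gl 4 * gl 8) * (gl 4 * gl 8) = 1 ∧
    gl 0 * gl 2 * (gl 0 * gl 2) * (gl 0 * gl 2) = 1 ∧
    gl 2 * gl 4 * (gl 2 * gl 4) * (gl 2 * gl 4) = 1 ∧
    gl 14 * gl 14 * (gl 0 * gl 4)⁻¹ = 1 := by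
  have h : ∀ w ∈ relWords, gword gl w = 1 := gl_rel
  have e1 := h [15, 3, 5, 1, 2, 14, 3, 0, 4, 2, 9] (by decide +kernel)
  have e2 := h [0, 8, 0, 8] (by decide +kernel)
  have e3 := h [2, 8, 2, 8] (by decide +kernel)
  have e4 := h [4, 8, 4, 8] (by decide +kernel)
  have e5 := h [0, 2, 0, 2, 0, 2] (by decide +kernel)
  have e6 := h [2, 4, 2, 4, 2, 4] (by decide +kernel)
  have e7 := h [14, 14, 5, 1] (by decide +kernel)
  have h5 : gl 5 = (gl 4)⁻¹ := gl_inv 4
  have h1 : gl 1 = (gl 0)⁻¹ := gl_inv 0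
  simp only [gword, List.map_cons, List.map_nil, List.prod_cons, List.prod_nil, mul_one,
    ← mul_assoc] at e1 e2 e3 e4 e5 e6 e7 ⊢
  refine ⟨e1, e2, e3, e4, e5, e6, ?_⟩
  rw [h5, h1] at e7
  rw [mul_inv_rev, ← mul_assoc]
  exact e7

theorem exists_conj : ∃ g : Th, g⁻¹ * gl 0 * g = gword gl [0, 4, 8] := by
  obtain ⟨hx, hae, hbe, hce, hab, hbc, -⟩ := rel_aux
  obtain ⟨ha, hb, hc, hd, he⟩ := a_rel
  have sqi : ∀ {z : Th}, z * z = 1 → z⁻¹ = z := fun h => inv_eq_of_mul_eq_one_left h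
  have h3 : gl 3 = gl 2 := (gl_inv 2).trans (sqi hb)
  have h5 : gl 5 = gl 4 := (gl_inv 4).trans (sqi hc)
  have h1 : gl 1 = gl 0 := (gl_inv 0).trans (sqi ha)
  have h9 : gl 9 = gl 8 := (gl_inv 8).trans (sqi he)
  have h15 : gl 15 = (gl 14)⁻¹ := gl_inv 14
  rw [h3, h5, h1, h9, h15] at hx
  -- b = (a b) a (a b)⁻¹
  have eb : gl 2 = (gl 0 * gl 2) * gl 0 * (gl 0 * gl 2)⁻¹ := by
    rw [mul_inv_rev, sqi ha, sqi hb]
    have := eq_inv_of_mul_eq_one_left (a := gl 0 * gl 2 * gl 0 * gl 2 * gl 0) (b := gl 2)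
      (by simpa [mul_assoc] using hab)
    rw [sqi hb] at this
    simpa [mul_assoc] using this.symm
  -- c = (b c) b (b c)⁻¹
  have ec : gl 4 = (gl 2 * gl 4) * gl 2 * (gl 2 * gl 4)⁻¹ := by
    rw [mul_inv_rev, sqi hb, sqi hc]
    have := eq_inv_of_mul_eq_one_left (a := gl 2 * gl 4 * gl 2 * gl 4 * gl 2) (b := gl 4)
      (by simpa [mul_assoc] using hbc)
    rw [sqi hc] at this
    simpa [mul_assoc] using this.symm
  -- a c = (d c d) c (d c d)⁻¹
  have hdcd : (gl 6 * gl 4 * gl 6)⁻¹ = gl 6 * gl 4 * gl 6 := by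
    rw [mul_inv_rev, mul_inv_rev, sqi hc, sqi hd, mul_assoc]
  have eac : gl 0 * gl 4 = (gl 6 * gl 4 * gl 6) * gl 4 * (gl 6 * gl 4 * gl 6)⁻¹ := by
    rw [hdcd]
    have h0 : gl 0 = (gl 6 * gl 4) ^ 4 := by
      rw [← sqi ha, a_eq, ← inv_pow, mul_inv_rev, sqi hc, sqi hd]
    rw [h0]
    simp [pow_succ, mul_assoc, hc]
  have hac : gl 4 * gl 0 = gl 0 * gl 4 := by
    have hh : (gl 0 * gl 4) * (gl 0 * gl 4) = 1 := by
      rw [eac]
      calc _ = (gl 6 * gl 4 * gl 6) * (gl 4 * gl 4) * (gl 6 * gl 4 * gl 6)⁻¹ := by group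
        _ = 1 := by rw [hc]; group
    have := eq_inv_of_mul_eq_one_left hh
    rw [mul_inv_rev, sqi hc, sqi ha] at this
    exact this.symm
  have hac' : ∀ z, gl 4 * (gl 0 * z) = gl 0 * (gl 4 * z) := fun z => by
    rw [← mul_assoc, hac, mul_assoc]
  -- e commutes with a, b, c
  have comm : ∀ {y : Th}, y * y = 1 → (y * gl 8) * (y * gl 8) = 1 → gl 8 * y = y * gl 8 := by
    intro y hy h
    have := eq_inv_of_mul_eq_one_left h
    rw [mul_inv_rev, sqi he, sqi hy] at this
    exact this.symm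
  have ca := comm ha hae
  have cb := comm hb hbe
  have cc := comm hc hce
  have hinv : (gl 2 * (gl 0 * gl 4) * gl 2)⁻¹ = gl 2 * (gl 0 * gl 4) * gl 2 := by
    rw [mul_inv_rev, mul_inv_rev, mul_inv_rev, sqi hb, sqi ha, sqi hc, hac]
    simp only [mul_assoc]
  have hx' : (gl 14)⁻¹ * (gl 2 * (gl 0 * gl 4) * gl 2) * gl 14 *
      ((gl 2 * (gl 0 * gl 4) * gl 2) * gl 8) = 1 := by
    simp only [mul_assoc, hac'] at hx ⊢
    exact hx
  have key : (gl 14)⁻¹ * (gl 2 * (gl 0 * gl 4) * gl 2) * gl 14 =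
      gl 8 * (gl 2 * (gl 0 * gl 4) * gl 2) := by
    rw [eq_inv_of_mul_eq_one_left hx', mul_inv_rev, sqi he, hinv]
  refine ⟨(gl 0 * gl 2)⁻¹ * (gl 2 * gl 4)⁻¹ * (gl 6 * gl 4 * gl 6)⁻¹ * gl 2 * gl 14 * gl 2, ?_⟩
  calc _ = (gl 2)⁻¹ * (gl 14)⁻¹ * (gl 2)⁻¹ * ((gl 6 * gl 4 * gl 6) * ((gl 2 * gl 4) *
        ((gl 0 * gl 2) * gl 0 * (gl 0 * gl 2)⁻¹) * (gl 2 * gl 4)⁻¹) *
          (gl 6 * gl 4 * gl 6)⁻¹) * gl 2 * gl 14 * gl 2 := by group
    _ = gl 2 * (gl 14)⁻¹ * gl 2 * (gl 0 * gl 4) * gl 2 * gl 14 * gl 2 := by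
        rw [← eb, ← ec, ← eac, sqi hb]
    _ = gl 2 * ((gl 14)⁻¹ * (gl 2 * (gl 0 * gl 4) * gl 2) * gl 14) * gl 2 := by group
    _ = (gl 2 * gl 8) * gl 2 * (gl 0 * gl 4) * (gl 2 * gl 2) := by rw [key]; group
    _ = gl 8 * (gl 2 * gl 2) * (gl 0 * gl 4) := by rw [hb, ← cb]; simp [mul_assoc, hb]
    _ = gl 0 * gl 4 * gl 8 := by
        rw [hb, mul_one, ← mul_assoc, ca, mul_assoc, cc, ← mul_assoc]
    _ = _ := by simp [gword, mul_assoc]

theorem commute_of_comm {x a : Th} (h : x⁻¹ * a⁻¹ * x * a = 1) : Commute x a :=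
  calc x * a = a * x * (x⁻¹ * a⁻¹ * x * a) := by group
    _ = a * x := by rw [h, mul_one]

theorem gword_comm (x : ℕ) (h : gword gl [x ^^^ 1, 1, x, 0] = 1) : Commute (gl x) (gl 0) :=
  commute_of_comm (by
    simp only [gword, List.map_cons, List.map_nil, List.prod_cons, List.prod_nil, mul_one,
      gl_inv x, show gl 1 = (gl 0)⁻¹ from gl_inv 0] at h
    simpa only [mul_assoc] using h)

/-! ### the centraliser -/

theorem K_le_centralizer : K ≤ centralizer ({gl 0} : Set Th) := by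
  obtain ⟨ha, hb, hc, hd, he⟩ := a_rel
  refine (closure_le _).2 ?_
  have sqi : ∀ {z : Th}, z * z = 1 → z⁻¹ = z := fun h => inv_eq_of_mul_eq_one_left h
  have hcomm : ∀ x, x < 14 → x % 2 = 0 → Commute (gk x) (gl 0) := by
    intro x hx hx2
    interval_cases x
    all_goals first | omega | skip
    · exact Commute.refl _
    · show gl 4 * gl 0 = gl 0 * gl 4
      rw [a_eq]
      have h6 : gl 4 * (gl 6 * gl 4) ^ 4 = (gl 4 * gl 6) ^ 4 * gl 4 := by
        simp [pow_succ, mul_assoc]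
      have h0 : gl 0 = (gl 6 * gl 4) ^ 4 := by
        rw [← sqi ha, a_eq, ← inv_pow, mul_inv_rev, sqi hc, sqi hd]
      conv_lhs => rw [← a_eq, h0]
      exact h6
    · show gl 6 * gl 0 = gl 0 * gl 6
      have h6 : gl 6 * (gl 4 * gl 6) ^ 4 = (gl 6 * gl 4) ^ 4 * gl 6 := by
        simp [pow_succ, mul_assoc]
      have h0 : gl 0 = (gl 6 * gl 4) ^ 4 := by
        rw [← sqi ha, a_eq, ← inv_pow, mul_inv_rev, sqi hc, sqi hd]
      conv_lhs => rw [a_eq]
      rw [h6, ← h0]
    · have h := eq_inv_of_mul_eq_one_left rel_aux.2.1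
      rw [mul_inv_rev, sqi he, sqi ha] at h
      exact h.symm
    · exact gword_comm 10 (gl_rel [11, 1, 10, 0] (by decide +kernel))
    · exact gword_comm 12 (gl_rel [13, 1, 12, 0] (by decide +kernel))
    · exact gword_comm 14 (gl_rel [15, 1, 14, 0] (by decide +kernel))
  rintro x ⟨i, hi, rfl⟩
  rw [SetLike.mem_coe, mem_centralizer_singleton_iff]
  rcases Nat.mod_two_eq_zero_or_one i with h | h
  · exact (hcomm i hi h).eq
  · have hj : i = (i - 1) ^^^ 1 := by interval_cases i <;> first | omega | decide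
    rw [hj, gk_inv]
    exact (hcomm (i - 1) (by omega) (by omega)).inv_left.eq

theorem u_not_mem (hidx : Th34.H.index = 143127000) : Th34.g .u ∉ Th34.H := by
  intro hu
  have : Th34.H = ⊤ := by
    rw [eq_top_iff, ← Th34.closure_gens, closure_le]
    rintro _ ⟨x, rfl⟩
    by_cases hx : x = .u
    · exact hx ▸ hu
    · exact Th34.g_mem_H hx
  rw [this, index_top] at hidx
  omega

/-- The order of `K` from the order of `H` alone, when `u` is outside `H`. -/
theorem kfacts_card [Finite Th] (hH : Nat.card Th34.H = 634023936) (hu : Th34.g .u ∉ Th34.H)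
    (ψ : Th34.H →* Equiv.Perm (Fin 819)) (hψ : ∀ x < 14, ψ (hs x) = Model.sg x) :
    Nat.card K = 92897280 ∧ Nat.card Qn = 512 ∧ Cfsg.IsExtraspecial 2 Qn := by
  obtain ⟨e9⟩ := quotient_equiv hu
  -- HK lies in a point stabiliser
  letI : MulAction Th34.H (Fin 819) := MulAction.compHom (Fin 819) ψ
  let p : Fin 819 := ⟨0, by decide⟩
  let St := MulAction.stabilizer Th34.H p
  have hst : Nat.card St = 774144 := by
    have horb : Nat.card (MulAction.orbit Th34.H p) = 819 := by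
      rw [show MulAction.orbit Th34.H p = Set.univ from Set.eq_univ_of_forall fun i => ?_,
        Nat.card_univ, Nat.card_fin]
      obtain ⟨a, ha, rfl⟩ := Model.ok.transitive i
      have : a ∈ ψ.range := by
        refine (closure_le _).2 ?_ ha
        rintro _ ⟨x, hx, rfl⟩
        exact ⟨hs x, hψ x hx⟩
      obtain ⟨x, rfl⟩ := this
      exact ⟨x, rfl⟩
    have h := Nat.card_congr (MulAction.orbitProdStabilizerEquivGroup Th34.H p)
    rw [Nat.card_prod, horb, hH] at h
    show Nat.card (MulAction.stabilizer Th34.H p) = _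
    omega
  have hHK : Nat.card HK ≤ 774144 := by
    have hle : HK.subgroupOf Th34.H ≤ St := by
      have hclos : HK.subgroupOf Th34.H ≤ closure {y : Th34.H | ∃ x < 12, (y : Th) = gk x} := by
        intro y hy
        have hy' : (y : Th) ∈ (closure {y : Th34.H | ∃ x < 12, (y : Th) = gk x}).map Th34.H.subtype := by
          rw [MonoidHom.map_closure]
          refine closure_mono ?_ (mem_subgroupOf.1 hy)
          rintro _ ⟨x, hx, rfl⟩
          exact ⟨⟨gk x, HK_le_H (subset_closure ⟨x, hx, rfl⟩)⟩, ⟨x, hx, rfl⟩, rfl⟩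
        obtain ⟨z, hz, he⟩ := hy'
        exact (Subtype.ext he : z = y) ▸ hz
      refine hclos.trans ((closure_le _).2 ?_)
      rintro y ⟨x, hx, hyx⟩
      have hT : toH x < 14 := by rw [toH]; split_ifs <;> omega
      have hy : y = hs (toH x) := by
        refine Subtype.ext ?_
        rw [hyx, gk_eq_gl (by omega)]
        simp [hs, hT]
      show y • p = p
      rw [hy]
      show ψ (hs (toH x)) p = p
      rw [hψ _ hT]
      have h := Model.fix_zero
      simp only [List.all_eq_true, List.mem_range, Bool.or_eq_true, beq_iff_eq] at h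
      have h' := (h (toH x) hT).resolve_left (by rw [toH]; split_ifs <;> omega)
      rw [runT_cons, runT_nil] at h'
      have e : (Model.sg (toH x))⁻¹ p = p :=
        Fin.ext ((Model.ok.sigma_inv_apply hT p).trans h')
      conv_lhs => rw [← e]
      exact (Model.sg (toH x)).apply_symm_apply p
    rw [← Nat.card_congr (subgroupOfEquivOfLe HK_le_H).toEquiv, ← hst]
    exact card_le_of_le hle
  obtain ⟨-, -, -, hrel, -⟩ := cover
  have hK : Nat.card (K ⧸ Qn.subgroupOf K) = 181440 := by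
    rw [Nat.card_congr e9.toEquiv, nat_card_alternatingGroup, Nat.card_fin]
    decide
  have hQK : Nat.card Qn * 181440 = Nat.card K := by
    rw [← hK, ← Nat.card_congr (subgroupOfEquivOfLe Qn_le_K).toEquiv, mul_comm]
    exact (card_eq_card_quotient_mul_card_subgroup _).symm
  have hKb : Nat.card K ≤ 92897280 := by
    rw [← relIndex_bot_left, ← relIndex_mul_relIndex ⊥ HK K bot_le HK_le_K, relIndex_bot_left]
    calc Nat.card HK * HK.relIndex K ≤ 774144 * 120 := Nat.mul_le_mul hHK hrel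
      _ = _ := by norm_num
  have hQle : Nat.card Qn ≤ 512 := by omega
  let f : Qn →* Equiv.Perm (Fin 819) :=
    ψ.comp (inclusion (Qn_le_HK.trans HK_le_H))
  have hY : Model.Y ≤ f.range := by
    refine (closure_le _).2 ?_
    rintro _ ⟨i, hi, rfl⟩
    refine ⟨⟨_, qWord_mem_Qn i hi⟩, ?_⟩
    have : inclusion (Qn_le_HK.trans HK_le_H) ⟨_, qWord_mem_Qn i hi⟩ =
        gword hs (Model.qWords.getD i []) :=
      Subtype.ext (coe_gword_hs (Model.q_lt i)).symm
    show ψ _ = _
    rw [this, gword_map, Model.pw_def]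
    exact gword_congr _ _ fun x hx => hψ x (Model.q_lt i x hx)
  have hrc : Nat.card f.range ≤ Nat.card Qn :=
    Nat.card_le_card_of_surjective f.rangeRestrict f.rangeRestrict_surjective
  have hYc : Nat.card Model.Y ≤ 512 := ((card_le_of_le hY).trans hrc).trans hQle
  have hQ : Nat.card Qn = 512 :=
    le_antisymm hQle ((Model.le_card_Y.trans (card_le_of_le hY)).trans hrc)
  have hrange : Model.Y = f.range := eq_of_le_of_card_ge hY (by
    rw [Model.card_Y hYc, ← hQ]; exact hrc)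
  have hbij : Function.Bijective f.rangeRestrict := by
    refine (Nat.bijective_iff_surjective_and_card _).2 ⟨f.rangeRestrict_surjective, ?_⟩
    rw [hQ, ← hrange, Model.card_Y hYc]
  have hExt : Cfsg.IsExtraspecial 2 Qn :=
    LargeExtraspecial.isExtraspecial_of_mulEquiv
      (((MulEquiv.ofBijective _ hbij).trans (MulEquiv.subgroupCongr hrange.symm)).symm)
      (Model.isExtraspecial hYc)
  have hKeq : Nat.card K = 92897280 := by rw [← hQK, hQ]
  exact ⟨hKeq, hQ, hExt⟩

/-- The facts on `K` and on the centraliser of `a`. -/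
theorem kfacts (hTh : Cfsg.IsTh Th) (hidx : Th34.H.index = 143127000)
    (ψ : Th34.H →* Equiv.Perm (Fin 819)) (hψ : ∀ x < 14, ψ (hs x) = Model.sg x)
    (hfix : Nat.card {q : Th ⧸ Th34.H // gl 0 • q = q} ≤ 17917) :
    centralizer ({gl 0} : Set Th) = K ∧ Nat.card K = 92897280 ∧ Nat.card Qn = 512 ∧
      Cfsg.IsExtraspecial 2 Qn := by
  have hfin : Finite Th := Nat.finite_of_card_ne_zero (by rw [hTh.2]; norm_num)
  have hH : Nat.card Th34.H = 634023936 := by
    have h := Th34.H.card_mul_index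
    rw [hidx, hTh.2] at h
    exact Nat.eq_of_mul_eq_mul_right (show 0 < 143127000 by norm_num) (h.trans (by norm_num))
  have hu : Th34.g .u ∉ Th34.H := u_not_mem hidx
  obtain ⟨hKeq, hQ, hExt⟩ := kfacts_card hH hu ψ hψ
  -- the bound for the centraliser
  let a' : Th34.H := gword hs [0, 4, 8]
  have hb := Model.card_centralizer_ace_le ψ hs hψ
  rw [hH] at hb
  have hCa : Nat.card ↥(Th34.H ⊓ centralizer ({(a' : Th)} : Set Th)) ≤ 10368 := by
    have : Nat.card ↥(Th34.H ⊓ centralizer ({(a' : Th)} : Set Th)) ≤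
        Nat.card ↥(centralizer ({a'} : Set Th34.H)) := by
      refine Nat.card_le_card_of_injective (fun y => ⟨⟨y.1, (mem_inf.1 y.2).1⟩, ?_⟩) ?_
      · exact mem_centralizer_singleton_iff.2
          (Subtype.ext (mem_centralizer_singleton_iff.1 (mem_inf.1 y.2).2))
      · intro y z h
        exact Subtype.ext (congrArg (fun w => ((w.1 : Th34.H) : Th)) h)
    refine this.trans ?_
    change Nat.card ↥(centralizer ({a'} : Set Th34.H)) * 2016 * 819 ≤ _ at hb
    omega
  obtain ⟨g, hg⟩ := exists_conj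
  have hg' : g⁻¹ * gl 0 * g = (a' : Th) := hg.trans (coe_gword_hs (by simp)).symm
  have hC := card_centralizer_le_fixed Th34.H hg' a'.2
  have hCK : centralizer ({gl 0} : Set Th) = K := by
    obtain ⟨j, hj⟩ := card_dvd_of_le K_le_centralizer
    refine (eq_of_le_of_card_ge K_le_centralizer ?_).symm
    have h2 : Nat.card ↥(centralizer ({gl 0} : Set Th)) ≤ 17917 * 10368 :=
      hC.trans (Nat.mul_le_mul hfix hCa)
    rw [hj, hKeq] at h2 ⊢
    have : j ≤ 1 := by omega
    interval_cases j <;> norm_num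
  exact ⟨hCK, hKeq, hQ, hExt⟩

/-- The centraliser of `a` is `2^{1+8}.A₉`. -/
theorem centralizer_structure (hTh : Cfsg.IsTh Th) (hidx : Th34.H.index = 143127000)
    (ψ : Th34.H →* Equiv.Perm (Fin 819)) (hψ : ∀ x < 14, ψ (hs x) = Model.sg x)
    (hfix : Nat.card {q : Th ⧸ Th34.H // gl 0 • q = q} ≤ 17917) :
    ∃ (G : Type) (_ : Group G) (_ : Finite G), Cfsg.IsTh G ∧ ∃ z : G, orderOf z = 2 ∧
      ∃ (Q : Subgroup (centralizer ({z} : Set G))) (_ : Q.Normal), Nat.card Q = 2 ^ 9 ∧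
        Cfsg.IsExtraspecial 2 Q ∧
        Nonempty ((centralizer ({z} : Set G)) ⧸ Q ≃* alternatingGroup (Fin 9)) := by
  have hfin : Finite Th := Nat.finite_of_card_ne_zero (by rw [hTh.2]; norm_num)
  have hu : Th34.g .u ∉ Th34.H := u_not_mem hidx
  obtain ⟨e9⟩ := quotient_equiv hu
  obtain ⟨hCK, hKeq, hQ, hExt⟩ := kfacts hTh hidx ψ hψ hfix
  have hord : orderOf (gl 0) = 2 := by
    refine orderOf_eq_prime (by rw [pow_two]; exact a_rel.1) fun h1 => ?_
    have : centralizer ({gl 0} : Set Th) = ⊤ := by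
      rw [eq_top_iff]; intro y _; rw [mem_centralizer_singleton_iff, h1, mul_one, one_mul]
    rw [hCK] at this
    have := hKeq
    rw [‹K = ⊤›, card_top, hTh.2] at this
    omega
  refine ⟨Th, inferInstance, hfin, hTh, gl 0, hord, ?_⟩
  rw [hCK]
  refine ⟨Qn.subgroupOf K, inferInstance, ?_, ?_, ⟨e9⟩⟩
  · rw [Nat.card_congr (subgroupOfEquivOfLe Qn_le_K).toEquiv, hQ]; norm_num
  · exact LargeExtraspecial.isExtraspecial_of_mulEquiv (subgroupOfEquivOfLe Qn_le_K).symm hExt

end CfsgLib.ThCent69
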