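import Cfsg.Agent.ThModel83.Model
import Cfsg.Agent.ThCent69.Main

/-!
The action of `H = ⟨a, b, c, d, e, s, t⟩` on 819 points, from the bound for the presented group.
-/

set_option autoImplicit false
set_option maxRecDepth 100000

namespace CfsgLib.ThCent69

open CfsgLib.CosetEnum Cfsg.Spor

/-- the permutations of the seven generators -/
noncomputable def pv (i : Fin 7) : Equiv.Perm (Fin 819) := Model.sg (2 * i.1)

theorem hWords_ok : wordsFrom (fun x => x ^^^ 1) Model.relWords
    ((ThModel83.rel7 (FreeGroup.of (0 : Fin 7)) (FreeGroup.of 1) (FreeGroup.of 2) (FreeGroup.of 3)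
      (FreeGroup.of 4) (FreeGroup.of 5) (FreeGroup.of 6)).map
        (encWord (fun i => 2 * i.1) (fun x => x ^^^ 1))) = true := by
  decide +kernel

theorem pv_rel : ThModel83.Rel7 pv := by
  intro r hr
  have e := ThModel83.rel7_map (FreeGroup.lift pv) (FreeGroup.of (0 : Fin 7)) (FreeGroup.of 1)
    (FreeGroup.of 2) (FreeGroup.of 3) (FreeGroup.of 4) (FreeGroup.of 5) (FreeGroup.of 6)
  simp only [FreeGroup.lift_apply_of] at e
  rw [← e, List.mem_map] at hr
  obtain ⟨w, hw, rfl⟩ := hr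
  rw [map_eq_gword (fun i : Fin 7 => 2 * i.1) (fun x => x ^^^ 1) (FreeGroup.lift pv) Model.sg
    (fun i => by rw [FreeGroup.lift_apply_of]; rfl)
    (fun i => by rw [FreeGroup.lift_apply_of, Model.sg_xor]; rfl) w]
  exact gword_of_wordsFrom Model.sg (fun x => x ^^^ 1) Model.sg_xor hWords_ok
    (fun v hv => Model.ok.gword_rel hv) _ (List.mem_map.2 ⟨w, hw, rfl⟩)

/-- The action of `H` on the 819 points. -/
theorem exists_psi (hb : ThModel83.BoundHyp) (hH : Nat.card Th34.H = 634023936) :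
    ∃ ψ : Th34.H →* Equiv.Perm (Fin 819), ∀ x < 14, ψ (hs x) = Model.sg x := by
  haveI := hb.1
  let j : ThModel83.Hp →* Cfsg.Spor.Th := ThModel83.toX ThModel83.gv ThModel83.gv_rel
  have hj : ∀ i : Fin 7, j (PresentedGroup.of i) = gl (2 * i.1) := fun i => by
    rw [ThModel83.toX_of]
    fin_cases i <;> rfl
  have hrange : j.range = Th34.H := by
    rw [MonoidHom.range_eq_map, ← PresentedGroup.closure_range_of, MonoidHom.map_closure]
    refine le_antisymm ((Subgroup.closure_le _).2 ?_) ?_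
    · rintro _ ⟨_, ⟨i, rfl⟩, rfl⟩
      rw [hj i]
      exact gl_mem_H (by omega)
    · show Subgroup.map Th34.π (Subgroup.closure _) ≤ _
      rw [MonoidHom.map_closure, Subgroup.closure_le]
      rintro _ ⟨w, hw, rfl⟩
      refine Subgroup.subset_closure ?_
      rcases hw with rfl | rfl | rfl | rfl | rfl | rfl | rfl
      · exact ⟨_, ⟨0, rfl⟩, hj 0⟩
      · exact ⟨_, ⟨1, rfl⟩, hj 1⟩
      · exact ⟨_, ⟨2, rfl⟩, hj 2⟩
      · exact ⟨_, ⟨3, rfl⟩, hj 3⟩
      · exact ⟨_, ⟨4, rfl⟩, hj 4⟩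
      · exact ⟨_, ⟨5, rfl⟩, hj 5⟩
      · exact ⟨_, ⟨6, rfl⟩, hj 6⟩
  let jH : ThModel83.Hp →* Th34.H := j.codRestrict Th34.H fun x => hrange ▸ ⟨x, rfl⟩
  have hsurj : Function.Surjective jH := fun y => by
    obtain ⟨x, hx⟩ : (y : Cfsg.Spor.Th) ∈ j.range := hrange.symm ▸ y.2
    exact ⟨x, Subtype.ext hx⟩
  have hbij : Function.Bijective jH := (Nat.bijective_iff_surjective_and_card _).2
    ⟨hsurj, le_antisymm (hb.2.trans hH.ge) (Nat.card_le_card_of_surjective jH hsurj)⟩
  let e := MulEquiv.ofBijective jH hbij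
  refine ⟨(ThModel83.toX pv pv_rel).comp e.symm.toMonoidHom, fun x hx => ?_⟩
  have key : ∀ i : Fin 7, ((ThModel83.toX pv pv_rel).comp e.symm.toMonoidHom) (hs (2 * i.1)) =
      Model.sg (2 * i.1) := by
    intro i
    have : e (PresentedGroup.of i) = hs (2 * i.1) := Subtype.ext (by
      simp only [hs, show 2 * i.1 < 14 by omega, dite_true]
      exact hj i)
    rw [MonoidHom.comp_apply, MulEquiv.coe_toMonoidHom, ← this, MulEquiv.symm_apply_apply,
      ThModel83.toX_of]
    rfl
  rcases Nat.mod_two_eq_zero_or_one x with h | h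
  · have := key ⟨x / 2, by omega⟩
    rwa [show 2 * (x / 2) = x by omega] at this
  · have hi := key ⟨x / 2, by omega⟩
    have hx' : x = (2 * (x / 2)) ^^^ 1 := by interval_cases x <;> first | omega | decide
    have : hs x = (hs (2 * (x / 2)))⁻¹ := Subtype.ext (by
      simp only [hs, hx, show 2 * (x / 2) < 14 by omega, dite_true, Subgroup.coe_inv]
      rw [← gl_inv, ← hx'])
    rw [this, map_inv, hi]
    conv_rhs => rw [hx']
    rw [Model.sg_xor]

/-- The structure theorem with the hypotheses as they come from the enumeration of `H`. -/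
theorem centralizer_structure' (hTh : Cfsg.IsTh Cfsg.Spor.Th) (hidx : Th34.H.index = 143127000)
    (hb : ThModel83.BoundHyp)
    (hfix : Nat.card {q : Cfsg.Spor.Th ⧸ Th34.H // gl 0 • q = q} ≤ 17917) :
    ∃ (G : Type) (_ : Group G) (_ : Finite G), Cfsg.IsTh G ∧ ∃ z : G, orderOf z = 2 ∧
      ∃ (Q : Subgroup (Subgroup.centralizer ({z} : Set G))) (_ : Q.Normal), Nat.card Q = 2 ^ 9 ∧
        Cfsg.IsExtraspecial 2 Q ∧
        Nonempty ((Subgroup.centralizer ({z} : Set G)) ⧸ Q ≃* alternatingGroup (Fin 9)) := by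
  have hH : Nat.card Th34.H = 634023936 := by
    have h := Th34.H.card_mul_index
    rw [hidx, hTh.2] at h
    exact Nat.eq_of_mul_eq_mul_right (show 0 < 143127000 by norm_num) (h.trans (by norm_num))
  obtain ⟨ψ, hψ⟩ := exists_psi hb hH
  exact centralizer_structure hTh hidx ψ hψ hfix

/-- The facts on `K` with the hypotheses as they come from the enumeration of `H`. -/
theorem kfacts' (hTh : Cfsg.IsTh Cfsg.Spor.Th) (hidx : Th34.H.index = 143127000)
    (hb : ThModel83.BoundHyp)
    (hfix : Nat.card {q : Cfsg.Spor.Th ⧸ Th34.H // gl 0 • q = q} ≤ 17917) :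
    Subgroup.centralizer ({gl 0} : Set Cfsg.Spor.Th) = K ∧ Nat.card K = 92897280 ∧
      Nat.card Qn = 512 ∧ Cfsg.IsExtraspecial 2 Qn := by
  have hH : Nat.card Th34.H = 634023936 := by
    have h := Th34.H.card_mul_index
    rw [hidx, hTh.2] at h
    exact Nat.eq_of_mul_eq_mul_right (show 0 < 143127000 by norm_num) (h.trans (by norm_num))
  obtain ⟨ψ, hψ⟩ := exists_psi hb hH
  exact kfacts hTh hidx ψ hψ hfix

end CfsgLib.ThCent69
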