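import Cfsg.Agent.DCosetFix69.Basic
import Cfsg.Agent.ThCent69.Class819.Main
import Cfsg.Agent.ThCent69.Psi
import Cfsg.Agent.ThCent69.Bound

/-!
The fixed cosets of `a` from a closed double coset certificate over `H`.
-/

set_option autoImplicit false
set_option maxRecDepth 100000

namespace CfsgLib.ThCent69

open CfsgLib.ThModel83 CfsgLib.DCosetFix69

/-- the order of a chain -/
def chainProd (lv : List (ℕ × List ℕ)) : ℕ := (lv.map fun e => e.2.length).prod

/-- the bound read off the chains -/
noncomputable def fixSum (img : ℕ → ℕ → ℕ) (C : DCert22.Code) (D : DCert22.Cert) (live : List ℕ)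
    (lv : ℕ → List (ℕ × List ℕ)) : ℕ :=
  (live.map fun a => (Class819.cls.filter (siftOK img C D (lv a))).length * 774144 /
    chainProd (lv a)).sum

theorem card_R : Nat.card R = 634023936 := by
  haveI := boundHyp.1
  haveI : Finite R := Finite.of_surjective rho.rangeRestrict rho.rangeRestrict_surjective
  exact le_antisymm ((Nat.card_le_card_of_surjective _ rho.rangeRestrict_surjective).trans
    boundHyp.2) card_R_ge

theorem fixed_le_of_closure {cim : ℕ → Option ℕ} {hcim : CimSpec boundHyp cim}
    (P : DCert22.Points (model boundHyp cim hcim)) {D : DCert22.Cert} {n : ℕ} {live : List ℕ}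
    (hA : DCert22.AllHold (model boundHyp cim hcim) Th34.H D n)
    (hall : ∀ w, DCert22.Covered (model boundHyp cim hcim) Th34.H D live w)
    (lv : ℕ → List (ℕ × List ℕ))
    (hlv : ∀ a ∈ live, DCert22.levelsOK P.img (code cim) D n a [] (lv a) = true)
    (hnum : ∀ a ∈ live, 0 < chainProd (lv a) ∧ chainProd (lv a) ∣ 634023936)
    (hsum : (live.map fun a => 634023936 / chainProd (lv a)).sum ≤ 143127000)
    (hidx : Th34.H.index = 143127000) {B : ℕ}
    (hB : fixSum P.img (code cim) D live lv ≤ B) :
    Nat.card {q : Cfsg.Spor.Th ⧸ Th34.H // gl 0 • q = q} ≤ B := by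
  haveI := boundHyp.1
  haveI : Finite R := Finite.of_surjective rho.rangeRestrict rho.rangeRestrict_surjective
  have h := card_fixed_le (model boundHyp cim hcim) P hA hall lv hlv
    (fun a ha => by rw [card_R]; exact hnum a ha)
    (by rw [card_R, hidx]; exact hsum)
    Class819.za Class819.cls Class819.conj_mem_cls
    (Class819.card_centralizer_za_le boundHyp)
  have hz : (model boundHyp cim hcim).hom Class819.za = gl 0 := hom_genR boundHyp 0
  rw [hz] at h
  exact h.trans hB

end CfsgLib.ThCent69
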