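import Cfsg.Agent.ThIndex62.Data.Chains
import Cfsg.Agent.ThCent69.Class819.Data

/-! Kernel counts: conjugates of `a` in the stabilisers of the nodes. -/

set_option autoImplicit false
set_option maxRecDepth 100000

namespace CfsgLib.ThCent69.FixCheck

open CfsgLib.ThModel83 CfsgLib.ThIndex62

/-- conjugates of `a` that pass the test of a node -/
noncomputable def count (Ls : List Lvl) : ℕ := (Class819.cls.filter (sift Ls)).length

theorem count1 : count Data.n1lvls = 51 := by decide +kernel

theorem count2 : count Data.n2lvls = 19 := by decide +kernel

theorem count3 : count Data.n3lvls = 3 := by decide +kernel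

theorem count4 : count Data.n4lvls = 0 := by decide +kernel

theorem count5 : count Data.n5lvls = 0 := by decide +kernel

theorem count6 : count Data.n6lvls = 0 := by decide +kernel

theorem count7 : count Data.n7lvls = 0 := by decide +kernel

theorem count8 : count Data.n8lvls = 0 := by decide +kernel

theorem count9 : count Data.n9lvls = 0 := by decide +kernel

theorem count10 : count Data.n10lvls = 0 := by decide +kernel

end CfsgLib.ThCent69.FixCheck
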