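import Cfsg.Agent.ThModel83.Sift

/-!
A stabiliser chain whose size is the whole order sifts every element.
-/

set_option autoImplicit false

namespace CfsgLib.ThCent69.SiftFull

open CfsgLib.ThModel83

theorem siftAux_complete {S : Subgroup Matˣ} [Finite S] : ∀ (Ls : List Lvl) (bs : List ℕ),
    ChainOK S bs Ls → (∀ L ∈ Ls, keysOK L = true) →
    Nat.card ↥(S ⊓ fixSub bs) ≤ chainSize Ls → ∀ x ∈ S ⊓ fixSub bs, ∀ q : Matˣ,
    siftAux Ls (x : Mat).1 (cenc q) = some (cenc (x * q))
  | [], bs, _, _, hc, x, hx, q => by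
    haveI : Finite ↥(S ⊓ fixSub bs) :=
      Finite.of_injective (Subgroup.inclusion inf_le_left) (Subgroup.inclusion_injective _)
    have h1 : Nat.card ↥(S ⊓ fixSub bs) = 1 := le_antisymm hc Nat.card_pos
    have hb := Subgroup.eq_bot_of_card_eq _ h1
    rw [hb, Subgroup.mem_bot] at hx
    rw [hx, one_mul, siftAux]
  | L :: Ls, bs, ⟨h1, h2, h3, h4, h5⟩, hk, hc, x, hx, q => by
    haveI : Finite ↥(S ⊓ fixSub bs) :=
      Finite.of_injective (Subgroup.inclusion inf_le_left) (Subgroup.inclusion_injective _)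
    haveI : Finite ↥(S ⊓ fixSub (L.b :: bs)) :=
      Finite.of_injective (Subgroup.inclusion inf_le_left) (Subgroup.inclusion_injective _)
    have hk' : ∀ M ∈ Ls, keysOK M = true := fun M hM => hk M (List.mem_cons_of_mem _ hM)
    have ihle := chain_card (R := S) Ls (L.b :: bs) h5 hk'
    have hnd := keys_nodup (hk L List.mem_cons_self)
    have hmem : ∀ i : Fin L.tbl.ents.length,
        ∃ t, t ∈ S ⊓ fixSub bs ∧ cenc t = (L.tbl.ents.get i).v := fun i => by
      refine ent_inR h1 (S := S ⊓ fixSub bs) (fun g hg => ?_) _ (List.get_mem _ i)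
      obtain ⟨y, hy, rfl⟩ := h4 g hg
      exact ⟨y, ⟨hy, fix_gens h2 hg rfl⟩, rfl⟩
    choose t ht htv using hmem
    have hle : S ⊓ fixSub (L.b :: bs) ≤ S ⊓ fixSub bs :=
      inf_le_inf_left _ fun y hy b hb => hy b (List.mem_cons_of_mem _ hb)
    let f : ↥(S ⊓ fixSub (L.b :: bs)) × Fin L.tbl.ents.length → ↥(S ⊓ fixSub bs) :=
      fun p => ⟨p.1.1 * t p.2, mul_mem (hle p.1.2) (ht p.2)⟩
    have e : ∀ (z : ↥(S ⊓ fixSub (L.b :: bs))) (k : Fin L.tbl.ents.length),
        vm L.b ((z.1 * t k : Matˣ) : Mat).1 = (L.tbl.ents.get k).k := fun z k => by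
      rw [Units.val_mul, coe_mul, vm_mulP _ _ h3, z.2.2 L.b List.mem_cons_self h3,
        ← lo_cenc, htv, (ent_facts h1 (List.get_mem _ k)).1]
    have hf : Function.Injective f := by
      rintro ⟨y, i⟩ ⟨z, j⟩ h
      have h' : y.1 * t i = z.1 * t j := congrArg Subtype.val h
      have hij : i = j := by
        have := (e y i).symm.trans ((congrArg (fun u : Matˣ => vm L.b (u : Mat).1) h').trans (e z j))
        have hi : i.1 < (L.tbl.ents.map (·.k)).length := by simp
        have hj : j.1 < (L.tbl.ents.map (·.k)).length := by simp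
        exact Fin.ext ((hnd.getElem_inj_iff (hi := hi) (hj := hj)).1 (by simpa using this))
      subst hij
      exact Prod.ext (Subtype.ext (mul_right_cancel h')) rfl
    have hinj := Nat.card_le_card_of_injective f hf
    rw [Nat.card_prod, Nat.card_eq_fintype_card (α := Fin _), Fintype.card_fin] at hinj
    rw [chainSize, mul_comm] at hc
    have hsum : Nat.card ↥(S ⊓ fixSub bs) =
        Nat.card ↥(S ⊓ fixSub (L.b :: bs)) * L.tbl.ents.length :=
      le_antisymm (hc.trans (Nat.mul_le_mul_right _ ihle)) hinj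
    have hbij : Function.Bijective f := (Nat.bijective_iff_injective_and_card f).2
      ⟨hf, by rw [Nat.card_prod, Nat.card_eq_fintype_card (α := Fin _), Fintype.card_fin, hsum]⟩
    have hpos : 0 < L.tbl.ents.length := by
      rcases Nat.eq_zero_or_pos L.tbl.ents.length with h0 | h0
      · rw [h0, mul_zero] at hsum
        exact absurd hsum Nat.card_pos.ne'
      · exact h0
    have hnext : Nat.card ↥(S ⊓ fixSub (L.b :: bs)) ≤ chainSize Ls :=
      Nat.le_of_mul_le_mul_right (hsum.symm.le.trans hc) hpos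
    obtain ⟨⟨y, i⟩, hyi⟩ := hbij.2 ⟨x, hx⟩
    have hx' : x = y.1 * t i := (congrArg Subtype.val hyi).symm
    obtain ⟨-, ⟨e', he', -, hev⟩, -⟩ := ent_facts h1 (List.get_mem L.tbl.ents i)
    have hkey : vm L.b (x : Mat).1 = (L.tbl.ents.get i).k := by rw [hx']; exact e y i
    rw [siftAux, hkey, he']
    show siftAux Ls (mulP (x : Mat).1 (hi e'.v)) (cmul e'.v (cenc q)) = _
    have hy : mulP (x : Mat).1 (hi e'.v) = (y.1 : Mat).1 := by
      rw [hev, ← htv, hi_cenc, ← coe_mul, ← Units.val_mul, hx', mul_inv_cancel_right]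
    rw [hy, hev, ← htv, ← cenc_mul,
      siftAux_complete Ls (L.b :: bs) h5 hk' hnext y.1 y.2 (t i * q), hx', mul_assoc]

/-- every element of the group passes the membership test -/
theorem sift_complete {S : Subgroup Matˣ} [Finite S] {Ls : List Lvl} (hok : ChainOK S [] Ls)
    (hk : ∀ L ∈ Ls, keysOK L = true) (hcard : Nat.card S ≤ chainSize Ls) {x : Matˣ} (hx : x ∈ S) :
    sift Ls (cenc x) = true := by
  haveI : Finite ↥(S ⊓ fixSub []) :=
    Finite.of_injective (Subgroup.inclusion inf_le_left) (Subgroup.inclusion_injective _)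
  have h := siftAux_complete Ls [] hok hk
    ((Nat.card_le_card_of_injective _ (Subgroup.inclusion_injective inf_le_left)).trans hcard)
    x ⟨hx, by intro b hb; simp at hb⟩ 1
  rw [mul_one, cenc_one] at h
  simp [sift, lo_cenc, h]

end CfsgLib.ThCent69.SiftFull
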