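import Cfsg.Agent.ThIndex62.Main
import Cfsg.Agent.ThCent69.FixCheck
import Cfsg.Agent.ThCent69.SiftFull
import Cfsg.Agent.ThCent69.Fix

/-!
`a` fixes at most 10200 cosets of `H`, from the certificate of the index.
-/

set_option autoImplicit false
set_option maxRecDepth 100000

namespace CfsgLib.ThCent69

open CfsgLib.ThModel83 CfsgLib.ThIndex62 Cfsg.Spor

/-- the membership tests of the nodes -/
noncomputable def memTest : ℕ → ℕ → Bool
  | 1 => sift Data.n1lvls
  | 2 => sift Data.n2lvls
  | 3 => sift Data.n3lvls
  | 4 => sift Data.n4lvls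
  | 5 => sift Data.n5lvls
  | 6 => sift Data.n6lvls
  | 7 => sift Data.n7lvls
  | 8 => sift Data.n8lvls
  | 9 => sift Data.n9lvls
  | 10 => sift Data.n10lvls
  | _ => fun _ => true

theorem mem_of_stab {hb : BoundHyp} {l : List ℕ} {hl : l.all validCode = true}
    {cim : ℕ → Option ℕ} {hcim : CimSpec hb cim} {L : Subgroup Cfsg.Spor.Th} {D : DCert22.Cert}
    {n a : ℕ} (hA : DCert22.AllHold (fastModel hb l hl cim hcim) L D n) {is : List ℕ}
    {Ls : List Lvl} {ss : List (List (ℕ × ℕ × ℕ))} (h : chainB [] Ls ss = true)
    (hf : ∀ K ∈ Ls.head?, fixFactOK D n a is K.gens = true)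
    (hc : Nat.card (DCert22.stab (fastModel hb l hl cim hcim) L D a) ≤ chainSize Ls) {k : R}
    (hk : k ∈ DCert22.stab (fastModel hb l hl cim hcim) L D a) :
    sift Ls (cenc k.1) = true := by
  haveI := finite_R hb
  set T := DCert22.stab (fastModel hb l hl cim hcim) L D a with hT
  have key : ∀ (is gs : List ℕ), fixFactOK D n a is gs = true →
      ∀ g ∈ gs, InR (T.map R.subtype) g := by
    intro is gs
    induction gs generalizing is with
    | nil => simp
    | cons g gs ih =>
      intro hk g' hg'
      cases is with
      | nil => simp [fixFactOK] at hk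
      | cons i is =>
        simp only [fixFactOK, Bool.and_eq_true] at hk
        obtain ⟨⟨hi, hk⟩, hrest⟩ := hk
        rcases List.mem_cons.1 hg' with rfl | hg'
        swap; · exact ih is hrest g' hg'
        split at hk
        swap; · simp at hk
        rename_i F hF
        simp only [Bool.and_eq_true, Bool.not_eq_true'] at hk
        obtain ⟨⟨⟨⟨he, ha⟩, hb'⟩, hy⟩, hx⟩ := hk
        obtain ⟨⟨k, hk'⟩, -, hr⟩ := hA i (by simpa [Nat.blt, Nat.ble_eq] using hi) F hF
        refine ⟨k.1, Subgroup.mem_map_of_mem R.subtype ?_, hk'.trans (Nat.eq_of_beq_eq_true hx)⟩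
        show DCert22.Rel L _ _
        have e1 : (fastModel hb l hl cim hcim).val ((fastModel hb l hl cim hcim).enc k) =
            hom hb k := (fastModel hb l hl cim hcim).val_enc k
        have e0 : (fastModel hb l hl cim hcim).val cone = 1 :=
          (fastModel hb l hl cim hcim).val_one
        simp only [DCert22.stVal, he, Bool.false_eq_true, if_false, mul_one,
          Nat.eq_of_beq_eq_true ha, Nat.eq_of_beq_eq_true hb', Nat.eq_of_beq_eq_true hy,
          ← hk', e1] at hr
        rw [e0, mul_one] at hr
        exact hr
  haveI : Finite ↥(T.map R.subtype) :=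
    Finite.of_injective (fun x => (⟨x.1, by
      obtain ⟨y, -, hy⟩ := x.2; exact hy ▸ y.2⟩ : R))
      fun x y h => Subtype.ext (congrArg (fun z : R => z.1) h)
  obtain ⟨hok, hkeys⟩ := chainB_spec [] Ls ss h fun K hK => key is K.gens (hf K hK)
  refine SiftFull.sift_complete hok hkeys ?_ (Subgroup.mem_map_of_mem R.subtype hk)
  rw [Subgroup.card_map_of_injective R.subtype_injective]
  exact hc

theorem memTest_of_stab : ∀ a ∈ live,
    Nat.card (DCert22.stab theModel Th34.H Data.cert a) ≤ kLow a →
    ∀ k ∈ DCert22.stab theModel Th34.H Data.cert a, memTest a (theModel.enc k) = true := by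
  intro a ha hc k hk
  simp only [live, List.mem_cons, List.not_mem_nil, or_false] at ha
  rcases ha with rfl | rfl | rfl | rfl | rfl | rfl | rfl | rfl | rfl | rfl | rfl
  · rfl
  · exact mem_of_stab allHold (is := Data.kg1) chain1_ok (fun K hK => by
      simp only [Data.n1lvls, List.head?_cons, Option.mem_def, Option.some.injEq] at hK
      exact hK ▸ fix1_ok) (hc.trans_eq size1_ok.symm) hk
  · exact mem_of_stab allHold (is := Data.kg2) chain2_ok (fun K hK => by
      simp only [Data.n2lvls, List.head?_cons, Option.mem_def, Option.some.injEq] at hK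
      exact hK ▸ fix2_ok) (hc.trans_eq size2_ok.symm) hk
  · exact mem_of_stab allHold (is := Data.kg3) chain3_ok (fun K hK => by
      simp only [Data.n3lvls, List.head?_cons, Option.mem_def, Option.some.injEq] at hK
      exact hK ▸ fix3_ok) (hc.trans_eq size3_ok.symm) hk
  · exact mem_of_stab allHold (is := Data.kg4) chain4_ok (fun K hK => by
      simp only [Data.n4lvls, List.head?_cons, Option.mem_def, Option.some.injEq] at hK
      exact hK ▸ fix4_ok) (hc.trans_eq size4_ok.symm) hk
  · exact mem_of_stab allHold (is := Data.kg5) chain5_ok (fun K hK => by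
      simp only [Data.n5lvls, List.head?_cons, Option.mem_def, Option.some.injEq] at hK
      exact hK ▸ fix5_ok) (hc.trans_eq size5_ok.symm) hk
  · exact mem_of_stab allHold (is := Data.kg6) chain6_ok (fun K hK => by
      simp only [Data.n6lvls, List.head?_cons, Option.mem_def, Option.some.injEq] at hK
      exact hK ▸ fix6_ok) (hc.trans_eq size6_ok.symm) hk
  · exact mem_of_stab allHold (is := Data.kg7) chain7_ok (fun K hK => by
      simp only [Data.n7lvls, List.head?_cons, Option.mem_def, Option.some.injEq] at hK
      exact hK ▸ fix7_ok) (hc.trans_eq size7_ok.symm) hk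
  · exact mem_of_stab allHold (is := Data.kg8) chain8_ok (fun K hK => by
      simp only [Data.n8lvls, List.head?_cons, Option.mem_def, Option.some.injEq] at hK
      exact hK ▸ fix8_ok) (hc.trans_eq size8_ok.symm) hk
  · exact mem_of_stab allHold (is := Data.kg9) chain9_ok (fun K hK => by
      simp only [Data.n9lvls, List.head?_cons, Option.mem_def, Option.some.injEq] at hK
      exact hK ▸ fix9_ok) (hc.trans_eq size9_ok.symm) hk
  · exact mem_of_stab allHold (is := Data.kg10) chain10_ok (fun K hK => by
      simp only [Data.n10lvls, List.head?_cons, Option.mem_def, Option.some.injEq] at hK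
      exact hK ▸ fix10_ok) (hc.trans_eq size10_ok.symm) hk

/-- `a` fixes at most 10200 cosets of `H`. -/
theorem fixed_a_le (hidx : Th34.H.index = 143127000) :
    Nat.card {q : Cfsg.Spor.Th ⧸ Th34.H // gl 0 • q = q} ≤ 10200 := by
  haveI := finite_R boundHyp
  have h := DCosetFix69.card_fixed_le_of_mem theModel covered stab_ge
    (by rw [ThIndex62.card_R]; decide)
    (by rw [ThIndex62.card_R, hidx]; decide +kernel)
    memTest memTest_of_stab Class819.za Class819.cls Class819.conj_mem_cls
    (Class819.card_centralizer_za_le boundHyp)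
  have hz : theModel.hom Class819.za = gl 0 := hom_genR boundHyp 0
  rw [hz] at h
  refine h.trans ?_
  have e0 : (Class819.cls.filter (memTest 0)).length = 819 := by
    rw [show memTest 0 = fun _ => true from rfl, List.filter_true, Class819.length_eq]
  simp only [live, List.map_cons, List.map_nil, List.sum_cons, List.sum_nil, e0,
    show (Class819.cls.filter (memTest 1)).length = 51 from FixCheck.count1,
    show (Class819.cls.filter (memTest 2)).length = 19 from FixCheck.count2,
    show (Class819.cls.filter (memTest 3)).length = 3 from FixCheck.count3,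
    show (Class819.cls.filter (memTest 4)).length = 0 from FixCheck.count4,
    show (Class819.cls.filter (memTest 5)).length = 0 from FixCheck.count5,
    show (Class819.cls.filter (memTest 6)).length = 0 from FixCheck.count6,
    show (Class819.cls.filter (memTest 7)).length = 0 from FixCheck.count7,
    show (Class819.cls.filter (memTest 8)).length = 0 from FixCheck.count8,
    show (Class819.cls.filter (memTest 9)).length = 0 from FixCheck.count9,
    show (Class819.cls.filter (memTest 10)).length = 0 from FixCheck.count10,
    ThIndex62.kLow]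
  norm_num

end CfsgLib.ThCent69
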