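import Cfsg.Agent.ThCent69.AltData
import Cfsg.Agent.ThCent69.PTable.Upper
import Cfsg.Agent.ThCent69.LTable.Upper
import Cfsg.Agent.CosetEnum.Present

/-!
The relators of the involution centraliser with `a = c = 1` present the alternating group of
degree 9.
-/

set_option autoImplicit false
set_option maxRecDepth 100000

namespace CfsgLib.ThCent69.Quot

open CfsgLib.CosetEnum

/-- values of the ten letters satisfy the relators -/
structure RelsHold {K : Type*} [Group K] (g : ℕ → K) : Prop where
  inv : ∀ x, g (x ^^^ 1) = (g x)⁻¹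
  rel : ∀ w ∈ PTable.words.take PTable.cert.nr, gword g w = 1

theorem lWords_sub : ∀ w ∈ LTable.words, w ∈ PTable.words.take PTable.cert.nr := by decide +kernel

theorem pSub : ∀ w ∈ PTable.words.drop PTable.cert.nr, ∀ x ∈ w, x < 8 := by decide +kernel

variable {K : Type*} [Group K] {g : ℕ → K}

theorem card_le (h : RelsHold g) (hgen : Subgroup.closure {a | ∃ x < 10, g x = a} = ⊤) :
    Finite K ∧ Nat.card K ≤ 181440 := by
  set L : Subgroup K := Subgroup.closure {a | ∃ x < 8, g x = a}
  have hP : ∀ (k : ℕ) (w : List ℕ), PTable.cert.words[k]? = some w → k < PTable.cert.nr →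
      gword g w = 1 := fun k w hk hlt => h.rel w <| by
    refine List.mem_of_getElem? (i := k) ?_
    rw [List.getElem?_take_of_lt hlt]; exact hk
  have hPs : ∀ (k : ℕ) (w : List ℕ), PTable.cert.words[k]? = some w → gword g w ∈ L := by
    intro k w hk
    rcases lt_or_ge k PTable.cert.nr with hlt | hge
    · rw [hP k w hk hlt]; exact one_mem L
    · refine gword_mem L g fun x hx => Subgroup.subset_closure ⟨x, pSub w ?_ x hx, rfl⟩
      refine List.mem_of_getElem? (i := k - PTable.cert.nr) ?_
      rw [List.getElem?_drop, Nat.add_sub_cancel' hge]; exact hk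
  have hL : ∀ (k : ℕ) (w : List ℕ), LTable.cert.words[k]? = some w → gword g w = 1 :=
    fun k w hk => h.rel w (lWords_sub w (List.mem_of_getElem? hk))
  have h1 := relIndex_le PTable.facts PTable.n_pos PTable.node_zero PTable.rows L g h.inv hP hPs
  have h2 := relIndex_le LTable.facts LTable.n_pos LTable.node_zero LTable.rows (⊥ : Subgroup K) g
    h.inv (fun k w hk _ => hL k w hk) (fun k w hk => by rw [hL k w hk]; exact one_mem _)
  rw [show PTable.cert.L = 10 from rfl, hgen, Subgroup.relIndex_top_right] at h1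
  rw [show LTable.cert.L = 8 from rfl, Subgroup.relIndex_bot_left] at h2
  have hc : Nat.card L * L.index = Nat.card K := L.card_mul_index
  have hne : Nat.card K ≠ 0 := by
    rw [← hc]; exact Nat.mul_ne_zero h2.2 h1.2
  refine ⟨Nat.finite_of_card_ne_zero hne, ?_⟩
  rw [← hc]
  calc Nat.card L * L.index ≤ 1512 * 120 := Nat.mul_le_mul h2.1 h1.1
    _ = 181440 := by norm_num

/-! ### the alternating group -/

theorem xor_lt {x : ℕ} (h : x < 10) : x ^^^ 1 < 10 := by
  interval_cases x <;> decide


theorem altVal_inv (x : ℕ) : letterVal 10 Alt.val (x ^^^ 1) = (letterVal 10 Alt.val x)⁻¹ :=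
  letterVal_inv 10 Alt.val (fun y => y ^^^ 1)
    (fun y hy => by interval_cases y <;> exact ⟨by decide, by decide +kernel⟩)
    (fun y hy h => hy (by
      have h2 : (y ^^^ 1) ^^^ 1 = y := by simp [Nat.xor_assoc]
      exact h2 ▸ xor_lt h)) x

theorem altVal_rel : ∀ w ∈ PTable.words.take PTable.cert.nr, gword (letterVal 10 Alt.val) w = 1 := by
  decide +kernel

theorem altVal_sign : ∀ x < 10, Equiv.Perm.sign (letterVal 10 Alt.val x) = 1 := by decide +kernel

theorem swapWords_ok : ∀ p ∈ Alt.swapWords,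
    gword (letterVal 10 Alt.val) p.2.2 = Equiv.swap 0 1 * Equiv.swap p.1 p.2.1 ∧
      ∀ x ∈ p.2.2, x < 10 := by
  decide +kernel

theorem swapWords_all : ∀ a b : Fin 9, a < b → ∃ p ∈ Alt.swapWords, p.1 = a ∧ p.2.1 = b := by
  decide +kernel

theorem closure_altVal :
    Subgroup.closure {a | ∃ x < 10, letterVal 10 Alt.val x = a} = alternatingGroup (Fin 9) := by
  refine le_antisymm ((Subgroup.closure_le _).2 ?_) ?_
  · rintro a ⟨x, hx, rfl⟩
    exact Equiv.Perm.mem_alternatingGroup.2 (altVal_sign x hx)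
  set U := Subgroup.closure {a | ∃ x < 10, letterVal 10 Alt.val x = a}
  let s01 : Equiv.Perm (Fin 9) := Equiv.swap 0 1
  have hpair : ∀ a b : Fin 9, a ≠ b → s01 * Equiv.swap a b ∈ U := by
    intro a b hne
    rcases lt_or_gt_of_ne hne with hlt | hlt
    · obtain ⟨p, hp, rfl, rfl⟩ := swapWords_all a b hlt
      rw [← (swapWords_ok p hp).1]
      exact gword_mem U _ fun x hx => Subgroup.subset_closure ⟨x, (swapWords_ok p hp).2 x hx, rfl⟩
    · obtain ⟨p, hp, rfl, rfl⟩ := swapWords_all b a hlt
      rw [Equiv.swap_comm, ← (swapWords_ok p hp).1]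
      exact gword_mem U _ fun x hx => Subgroup.subset_closure ⟨x, (swapWords_ok p hp).2 x hx, rfl⟩
  have hss : s01 * s01 = 1 := Equiv.swap_mul_self _ _
  have key : ∀ σ : Equiv.Perm (Fin 9),
      (Equiv.Perm.sign σ = 1 → σ ∈ U) ∧ (Equiv.Perm.sign σ = -1 → s01 * σ ∈ U) := by
    intro σ
    induction σ using Equiv.Perm.swap_induction_on with
    | one => exact ⟨fun _ => one_mem U, fun h => by simp at h⟩
    | swap_mul σ x y hxy ih =>
      have hxyU := hpair x y hxy
      have hsign : Equiv.Perm.sign (Equiv.swap x y * σ) = -Equiv.Perm.sign σ := by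
        rw [map_mul, Equiv.Perm.sign_swap hxy, neg_one_mul]
      refine ⟨fun h => ?_, fun h => ?_⟩
      · have h' : s01 * σ ∈ U := ih.2 (by rw [hsign] at h; rw [← neg_neg (Equiv.Perm.sign σ), h])
        have e : Equiv.swap x y * σ = (s01 * Equiv.swap x y)⁻¹ * (s01 * σ) := by
          rw [mul_inv_rev, Equiv.swap_inv, mul_assoc, inv_mul_cancel_left]
        rw [e]; exact mul_mem (inv_mem hxyU) h'
      · have h' : σ ∈ U := ih.1 (by rw [hsign] at h; exact neg_inj.1 h)
        rw [← mul_assoc]; exact mul_mem hxyU h'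
  intro σ hσ
  exact (key σ).1 (Equiv.Perm.mem_alternatingGroup.1 hσ)

/-- A nontrivial group with these generators and relators is the alternating group of degree 9. -/
theorem nonempty_mulEquiv (h : RelsHold g) (hgen : Subgroup.closure {a | ∃ x < 10, g x = a} = ⊤)
    (hne : ∃ a : K, a ≠ 1) : Nonempty (K ≃* alternatingGroup (Fin 9)) := by
  let gA : ℕ → alternatingGroup (Fin 9) := fun x => ⟨letterVal 10 Alt.val x,
    Equiv.Perm.mem_alternatingGroup.2 (by
      by_cases hx : x < 10
      · exact altVal_sign x hx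
      · rw [letterVal, if_neg hx, map_one])⟩
  let gg : ℕ → K × alternatingGroup (Fin 9) := fun x => (g x, gA x)
  let M : Subgroup (K × alternatingGroup (Fin 9)) := Subgroup.closure {a | ∃ x < 10, gg x = a}
  have hgg : RelsHold gg := by
    refine ⟨fun x => Prod.ext (h.inv x) (Subtype.ext (altVal_inv x)), fun w hw => ?_⟩
    refine Prod.ext ?_ (Subtype.ext ?_)
    · have := gword_map (MonoidHom.fst K (alternatingGroup (Fin 9))) gg w
      exact this.trans (h.rel w hw)
    · have := gword_map ((Subgroup.subtype _).comp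
        (MonoidHom.snd K (alternatingGroup (Fin 9)))) gg w
      exact this.trans (altVal_rel w hw)
  have hlt10 : ∀ w ∈ PTable.words.take PTable.cert.nr, ∀ x ∈ w, x < 10 := by decide +kernel
  have hmemM : ∀ x < 10, gg x ∈ M := fun x hx => Subgroup.subset_closure ⟨x, hx, rfl⟩
  let gM : ℕ → M := fun x => if hx : x < 10 then ⟨gg x, hmemM x hx⟩ else 1
  have hgM : RelsHold gM := by
    have hlt : ∀ x, x < 10 → x ^^^ 1 < 10 := fun _ => xor_lt
    refine ⟨fun x => ?_, fun w hw => ?_⟩
    · by_cases hx : x < 10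
      · simp only [gM, dif_pos hx, dif_pos (hlt x hx)]
        exact Subtype.ext (hgg.inv x)
      · have : ¬ x ^^^ 1 < 10 := fun h' => hx (by simpa [Nat.xor_assoc] using hlt _ h')
        simp only [gM, dif_neg hx, dif_neg this, inv_one]
    · apply Subtype.ext
      have h1 := gword_map M.subtype gM w
      rw [Subgroup.coe_subtype] at h1
      rw [h1, OneMemClass.coe_one, gword_congr _ gg fun x hx => ?_]
      · exact hgg.rel w hw
      · simp [gM, dif_pos (hlt10 w hw x hx)]
  have hgenM : Subgroup.closure {a | ∃ x < 10, gM x = a} = ⊤ := by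
    apply Subgroup.map_injective M.subtype_injective
    rw [MonoidHom.map_closure, ← MonoidHom.range_eq_map, Subgroup.range_subtype]
    show _ = Subgroup.closure _
    congr 1
    ext a
    constructor
    · rintro ⟨_, ⟨x, hx, rfl⟩, rfl⟩
      exact ⟨x, hx, by simp [gM, dif_pos hx]⟩
    · rintro ⟨x, hx, rfl⟩
      exact ⟨gM x, ⟨x, hx, rfl⟩, by simp [gM, dif_pos hx]⟩
  obtain ⟨hfin, hcard⟩ := card_le hgM hgenM
  let pA : M →* alternatingGroup (Fin 9) := (MonoidHom.snd _ _).comp M.subtype
  let pK : M →* K := (MonoidHom.fst _ _).comp M.subtype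
  have hA : Function.Surjective pA := by
    intro σ
    have hσ : (σ : Equiv.Perm (Fin 9)) ∈ ((alternatingGroup (Fin 9)).subtype.comp pA).range := by
      refine (Subgroup.closure_le _).2 ?_ (closure_altVal.ge σ.2)
      rintro a ⟨x, hx, rfl⟩
      exact ⟨⟨gg x, hmemM x hx⟩, rfl⟩
    obtain ⟨m, hm⟩ := hσ
    exact ⟨m, Subtype.ext hm⟩
  have hK : Function.Surjective pK := by
    rw [← MonoidHom.range_eq_top, ← top_le_iff, ← hgen, Subgroup.closure_le]
    rintro a ⟨x, hx, rfl⟩
    exact ⟨⟨gg x, hmemM x hx⟩, rfl⟩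
  have hcA : Nat.card (alternatingGroup (Fin 9)) = 181440 := by
    rw [nat_card_alternatingGroup, Nat.card_fin]
    decide
  have hbij : Function.Bijective pA := by
    refine ⟨?_, hA⟩
    have : Fintype M := Fintype.ofFinite M
    have h1 : Nat.card M = Nat.card (alternatingGroup (Fin 9)) :=
      le_antisymm (hcard.trans hcA.ge) (Nat.card_le_card_of_surjective pA hA)
    exact ((Nat.bijective_iff_surjective_and_card pA).2 ⟨hA, h1⟩).1
  let eA : M ≃* alternatingGroup (Fin 9) := MulEquiv.ofBijective pA hbij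
  let f : alternatingGroup (Fin 9) →* K := pK.comp eA.symm.toMonoidHom
  have hf : Function.Surjective f := hK.comp eA.symm.surjective
  have hsimple : IsSimpleGroup (alternatingGroup (Fin 9)) :=
    alternatingGroup.isSimpleGroup (by simp)
  rcases hsimple.eq_bot_or_eq_top_of_normal f.ker f.normal_ker with hb | ht
  · exact ⟨(MulEquiv.ofBijective f ⟨(MonoidHom.ker_eq_bot_iff f).1 hb, hf⟩).symm⟩
  · obtain ⟨a, ha⟩ := hne
    obtain ⟨y, rfl⟩ := hf a
    exact absurd (show y ∈ f.ker by rw [ht]; exact Subgroup.mem_top y) ha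

end CfsgLib.ThCent69.Quot
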