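import Cfsg.Agent.Th34.Basic
import Cfsg.Agent.ThCent69.Quot
import Cfsg.Agent.ThCent69.KTable.Upper
import Cfsg.Agent.ThCent69.Model.Group
import Cfsg.Agent.LargeExtraspecial.Extraspecial

/-!
The subgroup `K = ⟨a, c, d, e, s, t, u⟩` of the presented Thompson group, with the normal
closure `Qn` of `c` in it.
-/

set_option autoImplicit false
set_option maxRecDepth 100000

namespace CfsgLib.ThCent69

open CfsgLib.CosetEnum Cfsg.Spor Subgroup

/-- numbers of the generators -/
def enc : Th.Gen → ℕ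
  | .a => 0
  | .b => 2
  | .c => 4
  | .d => 6
  | .e => 8
  | .s => 10
  | .t => 12
  | .u => 14

/-- the generator of a letter -/
def dec : ℕ → Th.Gen
  | 0 => .a
  | 1 => .a
  | 2 => .b
  | 3 => .b
  | 4 => .c
  | 5 => .c
  | 6 => .d
  | 7 => .d
  | 8 => .e
  | 9 => .e
  | 10 => .s
  | 11 => .s
  | 12 => .t
  | 13 => .t
  | _ => .u

/-- the value of a letter: `2 i` the `i`th generator, `2 i + 1` its inverse -/
noncomputable def val (x : ℕ) : Th :=
  if x % 2 = 0 then Th34.g (dec x) else (Th34.g (dec x))⁻¹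

/-- values of all sixteen letters, the others mean 1 -/
noncomputable def gl : ℕ → Th := letterVal 16 val

theorem xor_lt16 {x : ℕ} (h : x < 16) : x ^^^ 1 < 16 := by
  interval_cases x <;> decide

theorem val_xor {x : ℕ} (h : x < 16) : val (x ^^^ 1) = (val x)⁻¹ := by
  interval_cases x <;> simp [val, dec]

theorem gl_inv (x : ℕ) : gl (x ^^^ 1) = (gl x)⁻¹ :=
  letterVal_inv 16 val (fun y => y ^^^ 1) (fun _ hy => ⟨xor_lt16 hy, val_xor hy⟩)
    (fun y hy h => hy (by
      have h2 : (y ^^^ 1) ^^^ 1 = y := by simp [Nat.xor_assoc]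
      exact h2 ▸ xor_lt16 h)) x

/-- the relators as words -/
def relWords : List (List ℕ) :=
  (coxList Th.edges Th.extra).map (encWord enc (fun x => x ^^^ 1))

theorem gl_rel : ∀ w ∈ relWords, gword gl w = 1 :=
  gword_relWord (coxList Th.edges Th.extra) _ (coxList_set Th.edges Th.extra) enc (fun x => x ^^^ 1)
    (MonoidHom.id Th) gl
    (fun a => by cases a <;> rfl)
    (fun a => by cases a <;> rfl)

/-- free reduction of a word -/
def red : List ℕ → List ℕ
  | [] => []
  | x :: w => match red w with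
    | [] => [x]
    | y :: v => if y = x ^^^ 1 then v else x :: y :: v

theorem gword_red {G : Type*} [Group G] (g : ℕ → G) (hg : ∀ x, g (x ^^^ 1) = (g x)⁻¹) :
    ∀ w, gword g (red w) = gword g w
  | [] => rfl
  | x :: w => by
    have ih := gword_red g hg w
    rw [red]
    split
    · rename_i h
      rw [h, gword_nil] at ih
      rw [gword_cons, gword_cons, gword_nil, ← ih]
    · rename_i y v h
      rw [h, gword_cons] at ih
      split_ifs with hy
      · rw [gword_cons, ← ih, hy, hg, mul_inv_cancel_left]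
      · rw [gword_cons, gword_cons, gword_cons, ← ih]

/-- words of the relators that avoid `b` -/
def relNoB : List (List ℕ) := relWords.filter fun w => w.all fun x => !(x == 2) && !(x == 3)

/-- the letters a, c, d, e, s, t, u numbered from 0 -/
def toK (x : ℕ) : ℕ := if x < 2 then x else x - 2

theorem gl_toK {x : ℕ} (h2 : x ≠ 2) (h3 : x ≠ 3) :
    letterVal 14 (fun y => if y < 2 then gl y else gl (y + 2)) (toK x) = gl x := by
  by_cases hx : x < 2
  · rw [toK, if_pos hx, letterVal, if_pos (by omega), if_pos hx]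
  · rw [toK, if_neg hx, letterVal]
    by_cases h : x - 2 < 14
    · rw [if_pos h, if_neg (by omega), show x - 2 + 2 = x by omega]
    · rw [if_neg h, gl, letterVal, if_neg (by omega)]

/-- values of the letters of `K` -/
noncomputable def gk : ℕ → Th := letterVal 14 (fun y => if y < 2 then gl y else gl (y + 2))

theorem xor_lt14 {x : ℕ} (h : x < 14) : x ^^^ 1 < 14 := by
  interval_cases x <;> decide

theorem gk_inv (x : ℕ) : gk (x ^^^ 1) = (gk x)⁻¹ :=
  letterVal_inv 14 _ (fun y => y ^^^ 1)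
    (fun y hy => ⟨xor_lt14 hy, by
      show (if y ^^^ 1 < 2 then gl (y ^^^ 1) else gl ((y ^^^ 1) + 2)) =
        (if y < 2 then gl y else gl (y + 2))⁻¹
      interval_cases y <;> norm_num <;> simp [← gl_inv]⟩)
    (fun y hy h => hy (by
      have h2 : (y ^^^ 1) ^^^ 1 = y := by simp [Nat.xor_assoc]
      exact h2 ▸ xor_lt14 h)) x

/-- relators of `K` -/
def relK : List (List ℕ) := relNoB.map fun w => red (w.map toK)

theorem gk_rel : ∀ w ∈ relK, gword gk w = 1 := by
  intro w hw
  obtain ⟨v, hv, rfl⟩ := List.mem_map.1 hw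
  rw [gword_red gk gk_inv]
  obtain ⟨hv1, hv2⟩ := List.mem_filter.1 hv
  simp only [List.all_eq_true, Bool.and_eq_true, Bool.not_eq_true', beq_eq_false_iff_ne] at hv2
  calc gword gk (v.map toK) = gword (fun x => gk (toK x)) v := by
        rw [gword, gword, List.map_map]; rfl
    _ = gword gl v := gword_congr _ _ fun x hx => gl_toK (hv2 x hx).1 (hv2 x hx).2
    _ = 1 := gl_rel v hv1

theorem kWords_ok : wordsFrom (fun x => x ^^^ 1) relK
    (KTable.words.take KTable.cert.nr) = true := by decide +kernel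

theorem kSub_lt : ∀ w ∈ KTable.words.drop KTable.cert.nr, ∀ x ∈ w, x < 12 := by decide +kernel

theorem kTable_c : (List.range 120).all (fun i =>
    KTable.cert.T (14 * i + 2) == i) = true := by decide +kernel

/-- `K = ⟨a, c, d, e, s, t, u⟩` -/
noncomputable def K : Subgroup Th := closure {a | ∃ x < 14, gk x = a}

/-- `HK = ⟨a, c, d, e, s, t⟩` -/
noncomputable def HK : Subgroup Th := closure {a | ∃ x < 12, gk x = a}

/-- the normal closure of `c` in `K` -/
noncomputable def Qn : Subgroup Th := closure {x | ∃ k ∈ K, k⁻¹ * gk 2 * k = x}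

theorem gk_mem_K {x : ℕ} (hx : x < 14) : gk x ∈ K := subset_closure ⟨x, hx, rfl⟩

theorem HK_le_K : HK ≤ K := by
  refine (closure_le _).2 ?_
  rintro a ⟨x, hx, rfl⟩
  exact gk_mem_K (by omega)

theorem HK_le_H : HK ≤ Th34.H := by
  refine (closure_le _).2 ?_
  rintro a ⟨x, hx, rfl⟩
  interval_cases x
  all_goals first
    | exact Th34.g_mem_H (by decide)
    | exact inv_mem (Th34.g_mem_H (by decide))

theorem cover : ∃ ι : Fin 120 → Th ⧸ HK, (∀ i, (gk 2)⁻¹ • ι i = ι i) ∧
    (∀ k ∈ K, k • ((1 : Th) : Th ⧸ HK) ∈ Set.range ι) ∧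
    HK.relIndex K ≤ 120 ∧ HK.relIndex K ≠ 0 := by
  have hrel : ∀ (k : ℕ) (w : List ℕ), KTable.cert.words[k]? = some w → k < KTable.cert.nr →
      gword gk w = 1 := fun k w hk hlt => by
    refine gword_of_wordsFrom gk (fun x => x ^^^ 1) gk_inv kWords_ok gk_rel w ?_
    refine List.mem_of_getElem? (i := k) ?_
    rw [List.getElem?_take_of_lt hlt]; exact hk
  have hsub : ∀ (k : ℕ) (w : List ℕ), KTable.cert.words[k]? = some w → gword gk w ∈ HK := by
    intro k w hk
    rcases lt_or_ge k KTable.cert.nr with hlt | hge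
    · rw [hrel k w hk hlt]; exact one_mem HK
    · refine gword_mem HK gk fun x hx => subset_closure ⟨x, kSub_lt w ?_ x hx, rfl⟩
      refine List.mem_of_getElem? (i := k - KTable.cert.nr) ?_
      rw [List.getElem?_drop, Nat.add_sub_cancel' hge]; exact hk
  have hI := relIndex_le KTable.facts KTable.n_pos KTable.node_zero KTable.rows HK gk gk_inv hrel hsub
  obtain ⟨ι, -, hT, hcov⟩ := exists_cover KTable.facts KTable.n_pos KTable.node_zero KTable.rows HK
    gk gk_inv hrel hsub
  refine ⟨ι, fun i => ?_, hcov, hI.1, hI.2⟩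
  have h := kTable_c
  simp only [List.all_eq_true, List.mem_range, beq_iff_eq] at h
  have hi : KTable.cert.T (KTable.cert.L * i + 2) = (i : ℕ) := h i i.2
  rw [hT i 2 (by decide) (hi.trans_lt i.2)]
  exact congrArg ι (Fin.ext hi)

theorem Qn_le_HK : Qn ≤ HK := by
  obtain ⟨ι, hc, hcov, -⟩ := cover
  refine (closure_le _).2 ?_
  rintro x ⟨k, hk, rfl⟩
  obtain ⟨i, hi⟩ := hcov k hk
  have h := hc i
  rw [hi, inv_smul_eq_iff, MulAction.Quotient.smul_coe, MulAction.Quotient.smul_coe, QuotientGroup.eq,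
    smul_eq_mul, smul_eq_mul, mul_one] at h
  rw [show k⁻¹ * gk 2 * k = k⁻¹ * (gk 2 * k) from mul_assoc _ _ _]
  exact h

theorem Qn_le_K : Qn ≤ K := Qn_le_HK.trans HK_le_K

theorem Qn_conj {k x : Th} (hk : k ∈ K) (hx : x ∈ Qn) : k * x * k⁻¹ ∈ Qn := by
  induction hx using Subgroup.closure_induction with
  | mem x hx =>
    obtain ⟨l, hl, rfl⟩ := hx
    refine subset_closure ⟨l * k⁻¹, mul_mem hl (inv_mem hk), ?_⟩
    group
  | one => simp
  | mul x y _ _ hx hy =>
    rw [show k * (x * y) * k⁻¹ = (k * x * k⁻¹) * (k * y * k⁻¹) by group]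
    exact mul_mem hx hy
  | inv x _ hx =>
    rw [show k * x⁻¹ * k⁻¹ = (k * x * k⁻¹)⁻¹ by group]
    exact inv_mem hx

instance Qn_normal : (Qn.subgroupOf K).Normal :=
  ⟨fun x hx k => mem_subgroupOf.2 (Qn_conj k.2 (mem_subgroupOf.1 hx))⟩

/-! ### relations among the generators -/

theorem rel_word {w : List ℕ} (h : w ∈ relWords) : gword gl w = 1 := gl_rel w h

theorem sq_one (x : ℕ) (h : [x, x] ∈ relWords) : gl x * gl x = 1 := by
  simpa [gword] using gl_rel _ h

theorem a_rel : gl 0 * gl 0 = 1 ∧ gl 2 * gl 2 = 1 ∧ gl 4 * gl 4 = 1 ∧ gl 6 * gl 6 = 1 ∧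
    gl 8 * gl 8 = 1 :=
  ⟨sq_one 0 (by decide +kernel), sq_one 2 (by decide +kernel), sq_one 4 (by decide +kernel),
    sq_one 6 (by decide +kernel), sq_one 8 (by decide +kernel)⟩

theorem a_eq : gl 0 = (gl 4 * gl 6) ^ 4 := by
  have h := gl_rel [0, 7, 5, 7, 5, 7, 5, 7, 5] (by decide +kernel)
  have h5 : gl 5 = (gl 4)⁻¹ := gl_inv 4
  have h7 : gl 7 = (gl 6)⁻¹ := gl_inv 6
  simp only [gword, List.map_cons, List.map_nil, List.prod_cons, List.prod_nil, mul_one, h5, h7] at h
  rw [eq_inv_of_mul_eq_one_left h]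
  simp [pow_succ, mul_assoc]

theorem gk_eq : gk 0 = gl 0 ∧ gk 2 = gl 4 ∧ gk 4 = gl 6 ∧ gk 6 = gl 8 ∧ gk 8 = gl 10 ∧
    gk 10 = gl 12 ∧ gk 12 = gl 14 :=
  ⟨rfl, rfl, rfl, rfl, rfl, rfl, rfl⟩

theorem a_mem_Qn : gl 0 ∈ Qn := by
  have hc : gl 4 ∈ Qn := subset_closure ⟨1, one_mem _, by simp [gk_eq]⟩
  have hd : gl 6 * gl 4 * gl 6 ∈ Qn :=
    subset_closure ⟨gl 6, gk_eq.2.2.1 ▸ gk_mem_K (by decide), by
      rw [gk_eq.2.1, inv_eq_of_mul_eq_one_left a_rel.2.2.2.1]⟩
  rw [a_eq]
  have := mul_mem (mul_mem hc hd) (mul_mem hc hd)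
  simpa [pow_succ, mul_assoc] using this

/-! ### the quotient -/

/-- values of d, e, s, t, u in `K ⧸ Qn` -/
noncomputable def gq : ℕ → K ⧸ Qn.subgroupOf K :=
  letterVal 10 fun x => if h : x + 4 < 14 then
    QuotientGroup.mk' (Qn.subgroupOf K) ⟨gk (x + 4), gk_mem_K h⟩ else 1

theorem gq_inv (x : ℕ) : gq (x ^^^ 1) = (gq x)⁻¹ :=
  letterVal_inv 10 _ (fun y => y ^^^ 1)
    (fun y hy => ⟨Quot.xor_lt hy, by
      rw [dif_pos (by have := Quot.xor_lt hy; omega), dif_pos (by omega), ← map_inv]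
      refine congrArg _ (Subtype.ext ?_)
      rw [Subgroup.coe_inv, ← gk_inv]
      show gk ((y ^^^ 1) + 4) = gk ((y + 4) ^^^ 1)
      congr 1
      interval_cases y <;> rfl⟩)
    (fun y hy h => hy (by
      have h2 : (y ^^^ 1) ^^^ 1 = y := by simp [Nat.xor_assoc]
      exact h2 ▸ Quot.xor_lt h)) x

/-- the words of `K` with a and c deleted -/
def relQ : List (List ℕ) := relK.map fun w => red ((w.filter fun x => 4 ≤ x).map fun x => x - 4)

theorem pWords_ok : wordsFrom (fun x => x ^^^ 1) relQ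
    (PTable.words.take PTable.cert.nr) = true := by decide +kernel

theorem relK_lt : ∀ w ∈ relK, ∀ x ∈ w, x < 14 := by decide +kernel

theorem gq_rel : ∀ w ∈ relQ, gword gq w = 1 := by
  intro w hw
  obtain ⟨v, hv, rfl⟩ := List.mem_map.1 hw
  rw [gword_red gq gq_inv]
  let q := QuotientGroup.mk' (Qn.subgroupOf K)
  have key : ∀ v : List ℕ, (∀ x ∈ v, x < 14) → ∃ h : gword gk v ∈ K,
      q ⟨gword gk v, h⟩ = gword gq ((v.filter fun x => 4 ≤ x).map fun x => x - 4) := by
    intro v hv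
    induction v with
    | nil => exact ⟨by rw [gword_nil]; exact one_mem K, map_one q⟩
    | cons x v ih =>
      obtain ⟨h, he⟩ := ih fun y hy => hv y (List.mem_cons_of_mem _ hy)
      have hx := hv x List.mem_cons_self
      refine ⟨by rw [gword_cons]; exact mul_mem (gk_mem_K hx) h, ?_⟩
      have e1 : q ⟨gword gk (x :: v), by rw [gword_cons]; exact mul_mem (gk_mem_K hx) h⟩ =
          q ⟨gk x, gk_mem_K hx⟩ * q ⟨gword gk v, h⟩ := by
        rw [← map_mul]
        exact congrArg q (Subtype.ext (gword_cons gk x v))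
      rw [e1, he]
      by_cases h4 : 4 ≤ x
      · rw [List.filter_cons_of_pos (by simpa using h4), List.map_cons, gword_cons]
        congr 1
        rw [gq, letterVal, if_pos (by omega), dif_pos (by omega)]
        exact congrArg q (Subtype.ext (congrArg gk (Nat.sub_add_cancel h4).symm))
      · rw [List.filter_cons_of_neg (by simpa using h4)]
        have hm : gk x ∈ Qn := by
          have hc : gk 2 ∈ Qn := subset_closure ⟨1, one_mem _, by simp⟩
          have h1 := gk_inv 0
          have h3 := gk_inv 2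
          interval_cases x
          · exact a_mem_Qn
          · rw [show (1 : ℕ) = 0 ^^^ 1 from rfl, h1]; exact inv_mem a_mem_Qn
          · exact hc
          · rw [show (3 : ℕ) = 2 ^^^ 1 from rfl, h3]; exact inv_mem hc
        rw [show q ⟨gk x, gk_mem_K hx⟩ = 1 from
          (QuotientGroup.eq_one_iff _).2 (mem_subgroupOf.2 hm), one_mul]
  obtain ⟨h, he⟩ := key v (relK_lt v hv)
  rw [← he, show (⟨gword gk v, h⟩ : K) = 1 from Subtype.ext (gk_rel v hv), map_one]

theorem relsHold : Quot.RelsHold gq :=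
  ⟨gq_inv, gword_of_wordsFrom gq (fun x => x ^^^ 1) gq_inv pWords_ok gq_rel⟩

theorem gq_gen : closure {a | ∃ x < 10, gq x = a} = ⊤ := by
  let q := QuotientGroup.mk' (Qn.subgroupOf K)
  refine eq_top_iff.2 fun y hy => ?_
  clear hy
  obtain ⟨⟨k, hk⟩, rfl⟩ := QuotientGroup.mk'_surjective (Qn.subgroupOf K) y
  induction hk using Subgroup.closure_induction with
  | mem a ha =>
    obtain ⟨x, hx, rfl⟩ := ha
    by_cases h4 : 4 ≤ x
    · refine subset_closure ⟨x - 4, by omega, ?_⟩
      rw [gq, letterVal, if_pos (by omega), dif_pos (by omega)]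
      exact congrArg _ (Subtype.ext (congrArg gk (Nat.sub_add_cancel h4)))
    · rw [show q _ = 1 from (QuotientGroup.eq_one_iff _).2 (mem_subgroupOf.2 ?_)]
      · exact one_mem _
      · show gk x ∈ Qn
        have hc : gk 2 ∈ Qn := subset_closure ⟨1, one_mem _, by simp⟩
        interval_cases x
        · exact a_mem_Qn
        · rw [show (1 : ℕ) = 0 ^^^ 1 from rfl, gk_inv]; exact inv_mem a_mem_Qn
        · exact hc
        · rw [show (3 : ℕ) = 2 ^^^ 1 from rfl, gk_inv]; exact inv_mem hc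
  | one => exact (map_one q).symm ▸ one_mem _
  | mul a b ha hb iha ihb =>
    rw [show q ⟨a * b, _⟩ = q ⟨a, ha⟩ * q ⟨b, hb⟩ from map_mul q ⟨a, ha⟩ ⟨b, hb⟩]
    exact mul_mem iha ihb
  | inv a ha iha =>
    rw [show q ⟨a⁻¹, _⟩ = (q ⟨a, ha⟩)⁻¹ from map_inv q ⟨a, ha⟩]
    exact inv_mem iha

/-- `K ⧸ Qn ≅ A₉` when `u` is outside `H`. -/
theorem quotient_equiv (hu : Th34.g .u ∉ Th34.H) :
    Nonempty ((K ⧸ Qn.subgroupOf K) ≃* alternatingGroup (Fin 9)) := by
  refine Quot.nonempty_mulEquiv relsHold gq_gen ?_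
  have hK : gk 12 ∈ K := gk_mem_K (by decide)
  refine ⟨QuotientGroup.mk' (Qn.subgroupOf K) ⟨gk 12, hK⟩, fun h => hu ?_⟩
  exact HK_le_H (Qn_le_HK (mem_subgroupOf.1 ((QuotientGroup.eq_one_iff _).1 h)))

end CfsgLib.ThCent69
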